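import Cfsg.Agent.Lib.Helper12.TC.Fn.Index

/-!
Function tables: the main theorem (helper12; generated from the list based versions, the table is an arbitrary function here).
-/

set_option autoImplicit false

namespace Cfsg.Agent.Lib.Helper12.TC.Fn

open Cfsg.Agent.Lib.Helper12.TC Cfsg.Spor

open Cfsg.Spor


section Generic


variable {G : Type*} [Group G] (H : Subgroup G) (v : ℕ → G) (F : ℕ → ℕ)

variable (hv15 : v 15 = 1) (hinv : ∀ s, v s * v s = 1)


/-- words of permutations act as the table says -/
theorem perm_word {TT : ℕ → ℕ → ℕ} {g N : ℕ} (ψ : ℕ → Equiv.Perm (Fin N))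
    (hψ : ∀ x < g, ∀ i : Fin N, ((ψ x i : Fin N) : ℕ) = TT x i)
    (l : List ℕ) (hl : ∀ s ∈ l, s < g) (i : Fin N) :
    ((wprod ψ l i : Fin N) : ℕ) = applyW TT l i := by
  induction l with
  | nil => rfl
  | cons s l ih =>
    rw [wprod_cons, Equiv.Perm.mul_apply, hψ s (hl s List.mem_cons_self), applyW_cons,
      ih (fun t ht => hl t (List.mem_cons_of_mem _ ht))]


end Generic


/-- the permutation of the points given by column `x` of the table -/
noncomputable def pT {TT : ℕ → ℕ → ℕ} {g N : ℕ} (hperm : permK TT g N = true) (x : ℕ) :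
    Equiv.Perm (Fin N) :=
  if hx : x < g then
    Function.Involutive.toPerm (fun i : Fin N => ⟨TT x i.val, permK_lt hperm hx i.isLt⟩)
      (fun i => Fin.ext (permK_invol hperm hx i.isLt))
  else 1


theorem pT_apply {TT : ℕ → ℕ → ℕ} {g N : ℕ} (hperm : permK TT g N = true) {x : ℕ} (hx : x < g)
    (i : Fin N) : ((pT hperm x i : Fin N) : ℕ) = TT x i.val := by
  rw [pT, dif_pos hx]; rfl


theorem pT_sq {TT : ℕ → ℕ → ℕ} {g N : ℕ} (hperm : permK TT g N = true) (x : ℕ) :
    pT hperm x * pT hperm x = 1 := by
  by_cases hx : x < g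
  · apply Equiv.ext
    intro i
    apply Fin.ext
    rw [Equiv.Perm.mul_apply, pT_apply hperm hx, pT_apply hperm hx]
    exact permK_invol hperm hx i.isLt
  · rw [pT, dif_neg hx, mul_one]


open Cfsg.Spor


section Main


variable {α : Type} [DecidableEq α] (edges : List (α × ℕ × α)) (extra : List (FreeGroup α))
  (gen : ℕ → α) (idx : α → ℕ) (g : ℕ)


set_option maxHeartbeats 1000000 in
theorem presented_index
    (hg : g ≤ 15) (hidx : ∀ y, idx y < g ∧ gen (idx y) = y) (hgi : ∀ i < g, idx (gen i) = i)
    (hnodes : ∀ y : α, y ∈ coxNodes edges)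
    (extraWords : List (List ℕ))
    (hextra : ∀ {K : Type} [Group K] (φ : FreeGroup α →* K),
      (∀ y, φ (FreeGroup.of y) * φ (FreeGroup.of y) = 1) →
      ((∀ r ∈ extra, φ r = 1) ↔
        ∀ b ∈ extraWords, wprod (fun i => φ (FreeGroup.of (gen i))) b = 1))
    (sw : List (List ℕ)) (S : Set (FreeGroup α))
    (hS : (PresentedGroup.mk (coxRelators edges ∪ {r | r ∈ extra})) '' S =
      {γ | ∃ w ∈ sw, γ = wprod (fun i =>
        PresentedGroup.mk (coxRelators edges ∪ {r | r ∈ extra}) (FreeGroup.of (gen i))) w})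
    (F : ℕ → ℕ) (RW : ℕ) (finrecs : List ℕ) (TT : ℕ → ℕ → ℕ) (rotW : List (ℕ × ℕ))
    (chunks : List (ℕ × List ℕ)) (D K R0 R N : ℕ)
    (hdefs : defsK F D = true)
    (hchunks : ∀ c ∈ chunks, chunkK F RW R0 c.2 c.1 = true)
    (hcover : coverK D K chunks = true)
    (hrelc : relCheckK RW R0 R (baseL edges gen g extraWords) rotW sw = true)
    (hlet : lettersK g (baseL edges gen g extraWords) = true)
    (hperm : permK TT g N = true)
    (hrels : relsK TT N (coxWords edges gen g ++ extraWords) = true)
    (hsub : subK TT g sw = true) (htrans : transK TT g N sw = true)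
    (hfin : finK F K g finrecs = true) (hlen : finrecs.length = N) (hN : 0 < N) :
    ((Subgroup.closure S).map
      (PresentedGroup.mk (coxRelators edges ∪ {r | r ∈ extra}))).index = N ∧
    ∃ Φ : (PresentedGroup (coxRelators edges ∪ {r | r ∈ extra}) ⧸
        (Subgroup.closure S).map (PresentedGroup.mk (coxRelators edges ∪ {r | r ∈ extra}))) ≃ Fin N,
      ∀ (b : Fin N) (hi : ℕ), b.val < hi → hi ≤ N → orbInvK TT sw b.val hi = true →
        orbConnK TT sw b.val hi = true →
        Φ '' (MulAction.orbit ((Subgroup.closure S).map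
          (PresentedGroup.mk (coxRelators edges ∪ {r | r ∈ extra}))) (Φ.symm b)) =
          {i : Fin N | b.val ≤ i.val ∧ i.val < hi} := by
  generalize hrelsdef : coxRelators edges ∪ {r | r ∈ extra} = rels at *
  -- the generators
  let v : ℕ → PresentedGroup rels :=
    fun i => if i < g then PresentedGroup.mk rels (FreeGroup.of (gen i)) else 1
  have hvlt : ∀ i < g, v i = PresentedGroup.mk rels (FreeGroup.of (gen i)) := fun i hi => if_pos hi
  have hvge : ∀ i, ¬ i < g → v i = 1 := fun i hi => if_neg hi
  have hv15 : v 15 = 1 := hvge 15 (by omega)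
  have hmk : ∀ r ∈ rels, PresentedGroup.mk rels r = 1 := fun r hr => PresentedGroup.one_of_mem hr
  have hmkcox : ∀ r ∈ coxRelators edges, PresentedGroup.mk rels r = 1 :=
    fun r hr => hmk r (by rw [← hrelsdef]; exact Or.inl hr)
  have hmkext : ∀ r ∈ extra, PresentedGroup.mk rels r = 1 :=
    fun r hr => hmk r (by rw [← hrelsdef]; exact Or.inr hr)
  have hsqG : ∀ y, PresentedGroup.mk rels (FreeGroup.of y) * PresentedGroup.mk rels (FreeGroup.of y)
      = 1 := cox_sq_of_hom edges (PresentedGroup.mk rels) hnodes hmkcox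
  have hinv : ∀ s, v s * v s = 1 := by
    intro s
    by_cases hs : s < g
    · rw [hvlt s hs]; exact hsqG _
    · rw [hvge s hs, mul_one]
  have hwv : ∀ l : List ℕ, (∀ s ∈ l, s < g) →
      wprod v l = wprod (fun i => PresentedGroup.mk rels (FreeGroup.of (gen i))) l := by
    intro l
    induction l with
    | nil => intro _; rfl
    | cons s l ih =>
      intro hl
      rw [wprod_cons, wprod_cons, ih (fun t ht => hl t (List.mem_cons_of_mem _ ht)),
        hvlt s (hl s List.mem_cons_self)]
  -- the base words have value one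
  have hbase : ∀ b ∈ baseL edges gen g extraWords, wprod v b = 1 := by
    intro b hb
    have hbl : ∀ s ∈ b, s < g := fun s hs => lettersK_lt hlet hb hs
    rw [hwv b hbl]
    rcases List.mem_append.mp hb with h | h
    · exact cox_words_of_hom edges gen (PresentedGroup.mk rels) g hnodes hmkcox b h
    · rcases List.mem_append.mp h with h | h
      · obtain ⟨i, _, rfl⟩ := List.mem_map.mp h
        rw [wprod_cons, wprod_cons, wprod_nil, mul_one]
        exact hsqG _
      · rcases List.mem_append.mp h with h | h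
        · exact (hextra (PresentedGroup.mk rels) hsqG).mp hmkext b h
        · rw [List.mem_singleton.mp h]; rfl
  have hswl : ∀ w ∈ sw, ∀ s ∈ w, s < g := by
    intro w hw s hs
    have h5 := (allListK_iff sw _).mp hsub w hw
    rw [Bool.and_eq_true] at h5
    exact Nat.le_of_ble_eq_true ((allListK_iff w _).mp h5.1 s hs)
  -- the subgroup
  have hH : (Subgroup.closure S).map (PresentedGroup.mk rels) =
      Subgroup.closure {γ | ∃ w ∈ sw, γ = wprod v w} := by
    rw [MonoidHom.map_closure, hS]
    congr 1
    ext γ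
    constructor
    · rintro ⟨w, hw, rfl⟩
      exact ⟨w, hw, (hwv w (hswl w hw)).symm⟩
    · rintro ⟨w, hw, rfl⟩
      exact ⟨w, hw, hwv w (hswl w hw)⟩
  generalize (Subgroup.closure S).map (PresentedGroup.mk rels) = H at hH ⊢
  have hswH : ∀ w ∈ sw, wprod v w ∈ H := by
    intro w hw
    rw [hH]
    exact Subgroup.subset_closure ⟨w, hw, rfl⟩
  have hlet15 : ∀ L : List (List ℕ), lettersK g L = true → lettersK 15 L = true := by
    intro L hL
    refine (allListK_iff L _).mpr (fun w hw => (allListK_iff w _).mpr (fun s hs => ?_))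
    have : s < g := lettersK_lt hL hw hs
    exact Nat.ble_eq_true_of_le (by omega)
  have hletsw : lettersK g sw = true :=
    (allListK_iff sw _).mpr (fun w hw => (allListK_iff w _).mpr (fun s hs =>
      Nat.ble_eq_true_of_le (hswl w hw s hs)))
  obtain ⟨hrel1, hrel2⟩ := relCheck_sound H v hrelc (hlet15 _ hlet) (hlet15 _ hletsw) hbase hswH
  -- all facts are valid
  have hvalid : ∀ k < K, Valid H v F k := by
    intro k
    induction k using Nat.strong_induction_on with
    | _ k ih =>
      intro hk
      by_cases hkD : k < D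
      · exact defsK_sound H v F hdefs hkD
      · exact chunks_valid H v F hv15 hinv hrel1 hrel2 chunks K D hchunks hcover k
          (Nat.le_of_not_lt hkD) hk (fun j hj => ih j hj (lt_trans hj hk))
  -- the permutation representation
  let f : α → Equiv.Perm (Fin N) := fun y => pT hperm (idx y)
  have hsqf : ∀ y, FreeGroup.lift f (FreeGroup.of y) * FreeGroup.lift f (FreeGroup.of y) = 1 := by
    intro y
    rw [FreeGroup.lift_apply_of]
    exact pT_sq hperm _
  have hψ : ∀ x < g, ∀ i : Fin N,
      (((fun i => FreeGroup.lift f (FreeGroup.of (gen i))) x i : Fin N) : ℕ) = TT x i := by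
    intro x hx i
    show ((FreeGroup.lift f (FreeGroup.of (gen x)) i : Fin N) : ℕ) = TT x i
    rw [FreeGroup.lift_apply_of]
    show ((pT hperm (idx (gen x)) i : Fin N) : ℕ) = TT x i
    rw [hgi x hx, pT_apply hperm hx]
  have hwords : ∀ b ∈ coxWords edges gen g ++ extraWords,
      wprod (fun i => FreeGroup.lift f (FreeGroup.of (gen i))) b = 1 := by
    intro b hb
    have hbl : ∀ s ∈ b, s < g := by
      intro s hs
      refine lettersK_lt hlet (w := b) ?_ hs
      rcases List.mem_append.mp hb with h | h
      · exact List.mem_append_left _ h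
      · exact List.mem_append_right _ (List.mem_append_right _ (List.mem_append_left _ h))
    apply Equiv.ext
    intro i
    apply Fin.ext
    rw [perm_word _ hψ b hbl i]
    exact Nat.eq_of_beq_eq_true ((allBelowK_iff N _).mp ((allListK_iff _ _).mp hrels b hb) i.val i.isLt)
  have hf : ∀ r ∈ rels, FreeGroup.lift f r = 1 := by
    intro r hr
    rw [← hrelsdef] at hr
    rcases hr with hr | hr
    · exact cox_hom_of_words edges gen (FreeGroup.lift f) g
        (fun y => ⟨idx y, (hidx y).1, (hidx y).2⟩) hsqf
        (fun b hb => hwords b (List.mem_append_left _ hb)) r hr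
    · exact (hextra (FreeGroup.lift f) hsqf).mpr
        (fun b hb => hwords b (List.mem_append_right _ hb)) r hr
  let ρ : PresentedGroup rels →* Equiv.Perm (Fin N) := PresentedGroup.toGroup hf
  have hρ : ∀ x < g, ∀ i : Fin N, ((ρ (v x) i : Fin N) : ℕ) = TT x i := by
    intro x hx i
    rw [hvlt x hx]
    have : ρ (PresentedGroup.mk rels (FreeGroup.of (gen x))) = f (gen x) :=
      PresentedGroup.toGroup.of hf
    rw [this]
    show ((pT hperm (idx (gen x)) i : Fin N) : ℕ) = TT x i
    rw [hgi x hx, pT_apply hperm hx]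
  have hgen : ∀ γ : PresentedGroup rels, γ ∈ Subgroup.closure {y | ∃ x < g, y = v x} := by
    intro γ
    have : Subgroup.closure {y | ∃ x < g, y = v x} = ⊤ := by
      rw [eq_top_iff, ← PresentedGroup.closure_range_of rels]
      apply Subgroup.closure_mono
      rintro _ ⟨y, rfl⟩
      refine ⟨idx y, (hidx y).1, ?_⟩
      rw [hvlt _ (hidx y).1, (hidx y).2]
      rfl
    rw [this]
    trivial
  obtain ⟨hindex, Φ, hΦ⟩ := index_and_equiv H v F hinv ρ hρ hH hvalid hfin hlen hN hgen
    hsub htrans
  refine ⟨hindex, Φ, ?_⟩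
  intro b hi hlo hhi hoi hoc
  exact orbit_image H v ρ hρ hH Φ hN hΦ hsub hlo hhi hoi hoc


end Main

end Cfsg.Agent.Lib.Helper12.TC.Fn
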