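import Cfsg.Agent.Lib.Helper12.TC.Main

/-!
Function tables: index and orbits (helper12; generated from the list based versions, the table is an arbitrary function here).
-/

set_option autoImplicit false

namespace Cfsg.Agent.Lib.Helper12.TC.Fn

open Cfsg.Agent.Lib.Helper12.TC

/-- table lookup in a tree of blocks of 2048 entries of 16 bits: the block of the point `i` in the
column `x` has the key `32 * x + i / 2048` -/
noncomputable def tabT (t : Tr) (x i : ℕ) : ℕ :=
  Nat.land (Nat.shiftRight (t.look (Nat.add (Nat.mul 32 x) (Nat.shiftRight i 11)))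
    (Nat.mul 16 (Nat.land i 2047))) 65535

/-- the action of a word on a point: the last letter acts first -/
def applyW (TT : ℕ → ℕ → ℕ) (l : List ℕ) (i : ℕ) : ℕ :=
  @List.rec ℕ (fun _ => ℕ) i (fun x _ ih => TT x ih) l


theorem applyW_nil (TT : ℕ → ℕ → ℕ) (i : ℕ) : applyW TT [] i = i := rfl

theorem applyW_cons (TT : ℕ → ℕ → ℕ) (x : ℕ) (l : List ℕ) (i : ℕ) :
    applyW TT (x :: l) i = TT x (applyW TT l i) := rfl


/-- every column `x < g` of the table is an involution of `[0, N)` -/
def permK (TT : ℕ → ℕ → ℕ) (g N : ℕ) : Bool :=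
  allBelowK g (fun x => allBelowK N (fun i =>
    Nat.blt (TT x i) N && Nat.beq (TT x (TT x i)) i))


/-- every word of the list fixes every point below `N` -/
def relsK (TT : ℕ → ℕ → ℕ) (N : ℕ) (rels : List (List ℕ)) : Bool :=
  allListK rels (fun r => allBelowK N (fun i => Nat.beq (applyW TT r i) i))


/-- the subgroup words have letters below `g` and fix the point `0` -/
def subK (TT : ℕ → ℕ → ℕ) (g : ℕ) (sw : List (List ℕ)) : Bool :=
  allListK sw (fun w => allListK w (fun s => Nat.blt s g) && Nat.beq (applyW TT w 0) 0)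


/-- every point other than `0` is moved to a smaller point by a generator or a subgroup word -/
def transK (TT : ℕ → ℕ → ℕ) (g N : ℕ) (sw : List (List ℕ)) : Bool :=
  allBelowK N (fun i => Nat.beq i 0 || (anyBelowK g (fun x => Nat.blt (TT x i) i) ||
    anyListK sw (fun w => Nat.blt (applyW TT w i) i)))


/-- the interval `[lo, hi)` is mapped to itself by the subgroup words -/
def orbInvK (TT : ℕ → ℕ → ℕ) (sw : List (List ℕ)) (lo hi : ℕ) : Bool :=
  allListK sw (fun w => allBelowK hi (fun i => Nat.blt i lo ||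
    forceN (applyW TT w i) (fun j => Nat.ble lo j && Nat.blt j hi)))


/-- every point of `(lo, hi)` is moved to a smaller point by a subgroup word -/
def orbConnK (TT : ℕ → ℕ → ℕ) (sw : List (List ℕ)) (lo hi : ℕ) : Bool :=
  allBelowK hi (fun i => Nat.ble i lo || anyListK sw (fun w => Nat.blt (applyW TT w i) i))


section Main


variable {G : Type*} [Group G] (H : Subgroup G) (v : ℕ → G) (F : ℕ → ℕ)

variable (hinv : ∀ s, v s * v s = 1)

variable {TT : ℕ → ℕ → ℕ} {g N K : ℕ}


theorem permK_lt (hperm : permK TT g N = true) {x i : ℕ} (hx : x < g) (hi : i < N) :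
    TT x i < N := by
  have h1 := (allBelowK_iff N _).mp ((allBelowK_iff g _).mp hperm x hx) i hi
  rw [Bool.and_eq_true] at h1
  exact Nat.le_of_ble_eq_true h1.1


theorem permK_invol (hperm : permK TT g N = true) {x i : ℕ} (hx : x < g) (hi : i < N) :
    TT x (TT x i) = i := by
  have h1 := (allBelowK_iff N _).mp ((allBelowK_iff g _).mp hperm x hx) i hi
  rw [Bool.and_eq_true] at h1
  exact Nat.eq_of_beq_eq_true h1.2


variable (ρ : G →* Equiv.Perm (Fin N))

variable (hρ : ∀ x < g, ∀ i : Fin N, ((ρ (v x) i : Fin N) : ℕ) = TT x i)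


include hρ in
theorem rho_word (l : List ℕ) (hl : ∀ s ∈ l, s < g) (i : Fin N) :
    ((ρ (wprod v l) i : Fin N) : ℕ) = applyW TT l i := by
  induction l with
  | nil => rw [wprod_nil, map_one]; rfl
  | cons s l ih =>
    rw [wprod_cons, map_mul, Equiv.Perm.mul_apply, hρ s (hl s List.mem_cons_self), applyW_cons,
      ih (fun t ht => hl t (List.mem_cons_of_mem _ ht))]


variable {sw : List (List ℕ)}

variable (hH : H = Subgroup.closure {γ | ∃ w ∈ sw, γ = wprod v w})


include hρ hH in
theorem fix_zero (hsub : subK TT g sw = true) (hN : 0 < N) :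
    ∀ h ∈ H, ρ h ⟨0, hN⟩ = ⟨0, hN⟩ := by
  intro h hh
  rw [hH] at hh
  refine Subgroup.closure_induction (p := fun h _ => ρ h ⟨0, hN⟩ = ⟨0, hN⟩) ?_ ?_ ?_ ?_ hh
  · rintro y ⟨w, hw, rfl⟩
    have h1 := (allListK_iff sw _).mp hsub w hw
    rw [Bool.and_eq_true] at h1
    have h2 : ∀ s ∈ w, s < g := fun s hs =>
      Nat.le_of_ble_eq_true ((allListK_iff w _).mp h1.1 s hs)
    apply Fin.ext
    rw [rho_word v ρ hρ w h2]
    exact Nat.eq_of_beq_eq_true h1.2
  · rw [map_one]; rfl
  · intro x y _ _ hx hy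
    rw [map_mul, Equiv.Perm.mul_apply, hy, hx]
  · intro x _ hx
    rw [map_inv, Equiv.Perm.inv_eq_iff_eq, hx]


include hρ in
theorem transitive (hsub : subK TT g sw = true)
    (htrans : transK TT g N sw = true) (hN : 0 < N) :
    ∀ i : Fin N, ∃ γ : G, ρ γ ⟨0, hN⟩ = i := by
  have main : ∀ n : ℕ, ∀ i : Fin N, i.val = n → ∃ γ : G, ρ γ ⟨0, hN⟩ = i := by
    intro n
    induction n using Nat.strong_induction_on with
    | _ n ih =>
      intro i hi
      have h1 := (allBelowK_iff N _).mp htrans i.val i.isLt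
      rw [Bool.or_eq_true, Bool.or_eq_true] at h1
      rcases h1 with h1 | h1 | h1
      · refine ⟨1, ?_⟩
        rw [map_one]
        apply Fin.ext
        exact (Nat.eq_of_beq_eq_true h1).symm
      · obtain ⟨x, hx, h2⟩ := (anyBelowK_iff g _).mp h1
        have h3 : TT x i.val < i.val := Nat.le_of_ble_eq_true h2
        have h4 : ((ρ (v x) i : Fin N) : ℕ) < n := by rw [hρ x hx i, ← hi]; exact h3
        obtain ⟨γ, hγ⟩ := ih _ h4 (ρ (v x) i) rfl
        refine ⟨(v x)⁻¹ * γ, ?_⟩
        rw [map_mul, Equiv.Perm.mul_apply, hγ, map_inv]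
        exact Equiv.Perm.inv_eq_iff_eq.mpr rfl
      · obtain ⟨w, hw, h2⟩ := (anyListK_iff sw _).mp h1
        have h3 : applyW TT w i.val < i.val := Nat.le_of_ble_eq_true h2
        have h5 := (allListK_iff sw _).mp hsub w hw
        rw [Bool.and_eq_true] at h5
        have h6 : ∀ s ∈ w, s < g := fun s hs =>
          Nat.le_of_ble_eq_true ((allListK_iff w _).mp h5.1 s hs)
        have h4 : ((ρ (wprod v w) i : Fin N) : ℕ) < n := by
          rw [rho_word v ρ hρ w h6 i, ← hi]; exact h3
        obtain ⟨γ, hγ⟩ := ih _ h4 (ρ (wprod v w) i) rfl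
        refine ⟨(wprod v w)⁻¹ * γ, ?_⟩
        rw [map_mul, Equiv.Perm.mul_apply, hγ, map_inv]
        exact Equiv.Perm.inv_eq_iff_eq.mpr rfl
  intro i
  exact main i.val i rfl


include hinv hρ hH in
/-- The index of `H` is `N`, and the cosets of `H` correspond to the points. -/

theorem index_and_equiv {recs : List ℕ} (hvalid : ∀ k < K, Valid H v F k)
    (hfin : finK F K g recs = true) (hlen : recs.length = N) (hN : 0 < N)
    (hgen : ∀ γ : G, γ ∈ Subgroup.closure {y | ∃ x < g, y = v x})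
    (hsub : subK TT g sw = true) (htrans : transK TT g N sw = true) :
    H.index = N ∧ ∃ Φ : G ⧸ H ≃ Fin N, ∀ γ : G, Φ (γ : G ⧸ H) = ρ γ ⟨0, hN⟩ := by
  have hcov := covering H v F hinv hvalid hfin hgen
  have hfix := fix_zero H v ρ hρ hH hsub hN
  have htr := transitive v ρ hρ hsub htrans hN
  -- the map from cosets to points
  let Ψ : G ⧸ H → Fin N := Quotient.lift (fun γ : G => ρ γ ⟨0, hN⟩) (by
    intro a b hab
    have h1 : a⁻¹ * b ∈ H := QuotientGroup.leftRel_apply.mp hab
    have h2 := hfix _ h1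
    show ρ a ⟨0, hN⟩ = ρ b ⟨0, hN⟩
    have h3 : b = a * (a⁻¹ * b) := by group
    rw [h3, map_mul, Equiv.Perm.mul_apply, h2])
  have hΨ : ∀ γ : G, Ψ (γ : G ⧸ H) = ρ γ ⟨0, hN⟩ := fun γ => rfl
  have hsurj : Function.Surjective Ψ := by
    intro i
    obtain ⟨γ, hγ⟩ := htr i
    exact ⟨(γ : G ⧸ H), hγ⟩
  -- the map from the live labels to cosets
  let Θ : Fin (repsOf recs).length → G ⧸ H :=
    fun i => (((tau v F ((repsOf recs).get i))⁻¹ : G) : G ⧸ H)
  have hΘ : Function.Surjective Θ := by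
    intro q
    induction q using QuotientGroup.induction_on with
    | H γ =>
      obtain ⟨ℓ, hℓ, hmem⟩ := hcov γ⁻¹
      obtain ⟨i, hi⟩ := List.mem_iff_get.mp hℓ
      refine ⟨i, ?_⟩
      show (((tau v F ((repsOf recs).get i))⁻¹ : G) : G ⧸ H) = (γ : G ⧸ H)
      rw [QuotientGroup.eq, hi]
      rw [inv_inv] at hmem ⊢
      exact hmem
  have hfinite : Finite (G ⧸ H) := Finite.of_surjective Θ hΘ
  have hle : Nat.card (G ⧸ H) ≤ N := by
    have := Nat.card_le_card_of_surjective Θ hΘ
    rw [Nat.card_fin] at this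
    have h2 : (repsOf recs).length = N := by
      rw [← hlen]; exact List.length_map _
    rwa [h2] at this
  have hbij : Function.Bijective Ψ :=
    hsurj.bijective_of_nat_card_le (by rw [Nat.card_fin]; exact hle)
  refine ⟨?_, Equiv.ofBijective Ψ hbij, hΨ⟩
  have h1 := Nat.card_congr (Equiv.ofBijective Ψ hbij)
  rw [Nat.card_fin] at h1
  exact h1


include hρ hH in
/-- The orbits of `H` on the cosets, read off from the table. -/

theorem orbit_image (Φ : G ⧸ H ≃ Fin N) (hN : 0 < N)
    (hΦ : ∀ γ : G, Φ (γ : G ⧸ H) = ρ γ ⟨0, hN⟩)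
    (hsub : subK TT g sw = true) {lo hi : ℕ} (hlo : lo < hi) (hhi : hi ≤ N)
    (hoi : orbInvK TT sw lo hi = true) (hoc : orbConnK TT sw lo hi = true) :
    Φ '' (MulAction.orbit H (Φ.symm ⟨lo, lt_of_lt_of_le hlo hhi⟩)) =
      {i : Fin N | lo ≤ i.val ∧ i.val < hi} := by
  set b : Fin N := ⟨lo, lt_of_lt_of_le hlo hhi⟩ with hb
  have hletters : ∀ w ∈ sw, ∀ s ∈ w, s < g := by
    intro w hw s hs
    have h5 := (allListK_iff sw _).mp hsub w hw
    rw [Bool.and_eq_true] at h5
    exact Nat.le_of_ble_eq_true ((allListK_iff w _).mp h5.1 s hs)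
  -- the action through `Φ`
  have hact : ∀ (γ : G) (q : G ⧸ H), Φ (γ • q) = ρ γ (Φ q) := by
    intro γ q
    induction q using QuotientGroup.induction_on with
    | H δ =>
      have : γ • (δ : G ⧸ H) = ((γ * δ : G) : G ⧸ H) := rfl
      rw [this, hΦ, hΦ, map_mul, Equiv.Perm.mul_apply]
  have himg : Φ '' (MulAction.orbit H (Φ.symm b)) = {i | ∃ h ∈ H, ρ h b = i} := by
    ext i
    constructor
    · rintro ⟨q, ⟨⟨h, hh⟩, rfl⟩, rfl⟩
      refine ⟨h, hh, ?_⟩
      show ρ h b = Φ (h • Φ.symm b)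
      rw [hact, Equiv.apply_symm_apply]
    · rintro ⟨h, hh, rfl⟩
      refine ⟨h • Φ.symm b, ⟨⟨h, hh⟩, rfl⟩, ?_⟩
      rw [hact, Equiv.apply_symm_apply]
  rw [himg]
  set S : Set (Fin N) := {i : Fin N | lo ≤ i.val ∧ i.val < hi} with hS
  have hmaps : ∀ h ∈ H, Set.MapsTo (ρ h) S S := by
    intro h hh
    rw [hH] at hh
    refine Subgroup.closure_induction (p := fun h _ => Set.MapsTo (ρ h) S S) ?_ ?_ ?_ ?_ hh
    · rintro y ⟨w, hw, rfl⟩ i hiS
      have h1 := (allBelowK_iff hi _).mp ((allListK_iff sw _).mp hoi w hw) i.val hiS.2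
      rw [forceN_eq, Bool.or_eq_true] at h1
      rcases h1 with h1 | h1
      · have : i.val < lo := Nat.le_of_ble_eq_true h1
        exact absurd hiS.1 (by omega)
      · rw [Bool.and_eq_true] at h1
        show lo ≤ ((ρ (wprod v w) i : Fin N) : ℕ) ∧ ((ρ (wprod v w) i : Fin N) : ℕ) < hi
        rw [rho_word v ρ hρ w (hletters w hw) i]
        exact ⟨Nat.le_of_ble_eq_true h1.1, Nat.le_of_ble_eq_true h1.2⟩
    · rw [map_one]; exact fun i hiS => hiS
    · intro x y _ _ hx hy
      rw [map_mul]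
      exact fun i hiS => hx (hy hiS)
    · intro x _ hx
      rw [map_inv]
      exact Equiv.Perm.perm_symm_mapsTo_of_mapsTo (ρ x) hx
  have hbS : b ∈ S := ⟨le_refl lo, hlo⟩
  ext i
  constructor
  · rintro ⟨h, hh, rfl⟩
    exact hmaps h hh hbS
  · intro hiS0
    have main : ∀ n : ℕ, ∀ i : Fin N, i.val = n → i ∈ S → ∃ h ∈ H, ρ h b = i := by
      intro n
      induction n using Nat.strong_induction_on with
      | _ n ih =>
        intro i hin hiS
        have h1 := (allBelowK_iff hi _).mp hoc i.val hiS.2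
        rw [Bool.or_eq_true] at h1
        rcases h1 with h1 | h1
        · have h2 : i.val ≤ lo := Nat.le_of_ble_eq_true h1
          refine ⟨1, H.one_mem, ?_⟩
          rw [map_one]
          apply Fin.ext
          show lo = i.val
          exact le_antisymm hiS.1 h2
        · obtain ⟨w, hw, h2⟩ := (anyListK_iff sw _).mp h1
          have h3 : applyW TT w i.val < i.val := Nat.le_of_ble_eq_true h2
          have hwH : wprod v w ∈ H := by
            rw [hH]; exact Subgroup.subset_closure ⟨w, hw, rfl⟩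
          have h4 : ((ρ (wprod v w) i : Fin N) : ℕ) < n := by
            rw [rho_word v ρ hρ w (hletters w hw) i, ← hin]; exact h3
          obtain ⟨h, hh, hγ⟩ := ih _ h4 (ρ (wprod v w) i) rfl (hmaps _ hwH hiS)
          refine ⟨(wprod v w)⁻¹ * h, H.mul_mem (H.inv_mem hwH) hh, ?_⟩
          rw [map_mul, Equiv.Perm.mul_apply, hγ, map_inv]
          exact Equiv.Perm.inv_eq_iff_eq.mpr rfl
    exact main i.val i rfl hiS0


end Main


/-- the column `x` of the table is an involution of `[0, N)` -/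
def permOneK (TT : ℕ → ℕ → ℕ) (x N : ℕ) : Bool :=
  allBelowK N (fun i => Nat.blt (TT x i) N && Nat.beq (TT x (TT x i)) i)

theorem permK_of_ones {TT : ℕ → ℕ → ℕ} {g N : ℕ} (h : ∀ x < g, permOneK TT x N = true) :
    permK TT g N = true :=
  (allBelowK_iff g _).mpr h

end Cfsg.Agent.Lib.Helper12.TC.Fn
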