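import Cfsg.Agent.Lib.Helper12.TC.Fn.Rho
import Cfsg.Agent.Lib.Helper12.Ord.Chain

/-!
Function tables: further columns defined as products of earlier ones, and the lower bound for the order
of the group from a chain of stabilisers (helper12).
-/

set_option autoImplicit false

namespace Cfsg.Agent.Lib.Helper12.TC.Fn

open Cfsg.Agent.Lib.Helper12.TC Cfsg.Agent.Lib.Helper12.Ord

/-! ### straight line programs -/

/-- the column `cur` of the table is the product of the columns of the word `w`, whose letters are below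
`cur` -/
def slpStepK (TT : ℕ → ℕ → ℕ) (N cur : ℕ) (w : List ℕ) : Bool :=
  allListK w (fun s => Nat.blt s cur) &&
    allBelowK N (fun i => Nat.beq (TT cur i) (applyW TT w i))

/-- the columns from `cur` on are the products given by the words of the list -/
def slpAllK (TT : ℕ → ℕ → ℕ) (N : ℕ) : ℕ → List (List ℕ) → Bool
  | _, [] => true
  | cur, w :: rest => slpStepK TT N cur w && slpAllK TT N (cur + 1) rest

theorem slpAllK_nil (TT : ℕ → ℕ → ℕ) (N cur : ℕ) : slpAllK TT N cur [] = true := rfl

theorem slpAllK_cons {TT : ℕ → ℕ → ℕ} {N cur : ℕ} {w : List ℕ} {rest : List (List ℕ)}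
    (h1 : slpStepK TT N cur w = true) (h2 : slpAllK TT N (cur + 1) rest = true) :
    slpAllK TT N cur (w :: rest) = true := by
  show (slpStepK TT N cur w && slpAllK TT N (cur + 1) rest) = true
  rw [h1, h2]; rfl

/-- the elements of the group belonging to the columns -/
def slpRun {G : Type*} [Group G] : List (List ℕ) → ℕ → (ℕ → G) → (ℕ → G)
  | [], _, u => u
  | w :: rest, cur, u => slpRun rest (cur + 1) (Function.update u cur (wprod u w))

theorem wprod_congr {G : Type*} [Group G] (u u' : ℕ → G) (l : List ℕ)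
    (h : ∀ s ∈ l, u s = u' s) : wprod u l = wprod u' l := by
  induction l with
  | nil => rfl
  | cons s l ih =>
    rw [wprod_cons, wprod_cons, h s List.mem_cons_self,
      ih (fun t ht => h t (List.mem_cons_of_mem _ ht))]

section Slp

variable {G : Type*} [Group G] {N : ℕ} (ρ : G →* Equiv.Perm (Fin N)) (TT : ℕ → ℕ → ℕ)

theorem slp_sound : ∀ (prog : List (List ℕ)) (cur : ℕ) (u : ℕ → G),
    (∀ x < cur, ∀ i : Fin N, ((ρ (u x) i : Fin N) : ℕ) = TT x i) →
    slpAllK TT N cur prog = true →
    (∀ x < cur + prog.length, ∀ i : Fin N, ((ρ (slpRun prog cur u x) i : Fin N) : ℕ) = TT x i) ∧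
      (∀ x < cur, slpRun prog cur u x = u x) ∧
      (∀ K : Subgroup G, (∀ x < cur, u x ∈ K) → ∀ x < cur + prog.length, slpRun prog cur u x ∈ K)
  | [], cur, u, hu, _ => ⟨fun x hx i => hu x (by simpa using hx) i, fun _ _ => rfl,
      fun K hK x hx => hK x (by simpa using hx)⟩
  | w :: rest, cur, u, hu, h => by
    have e : slpAllK TT N cur (w :: rest) =
        (slpStepK TT N cur w && slpAllK TT N (cur + 1) rest) := rfl
    rw [e, Bool.and_eq_true] at h
    obtain ⟨h1, h2⟩ := h
    unfold slpStepK at h1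
    rw [Bool.and_eq_true] at h1
    obtain ⟨hlet, hcol⟩ := h1
    have hl : ∀ s ∈ w, s < cur := fun s hs =>
      Nat.le_of_ble_eq_true ((allListK_iff w _).mp hlet s hs)
    set u' : ℕ → G := Function.update u cur (wprod u w) with hu'
    have hu'lt : ∀ x < cur, u' x = u x := fun x hx => by
      rw [hu', Function.update_of_ne (Nat.ne_of_lt hx)]
    have hu'cur : u' cur = wprod u w := by rw [hu', Function.update_self]
    have hnew : ∀ x < cur + 1, ∀ i : Fin N, ((ρ (u' x) i : Fin N) : ℕ) = TT x i := by
      intro x hx i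
      rcases Nat.lt_succ_iff_lt_or_eq.mp hx with h3 | h3
      · rw [hu'lt x h3]; exact hu x h3 i
      · rw [h3, hu'cur, rho_word u ρ hu w hl i]
        exact (Nat.eq_of_beq_eq_true ((allBelowK_iff N _).mp hcol i.val i.isLt)).symm
    obtain ⟨r1, r2, r3⟩ := slp_sound rest (cur + 1) u' hnew h2
    refine ⟨?_, ?_, ?_⟩
    · intro x hx i
      exact r1 x (by simp only [List.length_cons] at hx; omega) i
    · intro x hx
      show slpRun rest (cur + 1) u' x = u x
      rw [r2 x (by omega), hu'lt x hx]
    · intro K hK x hx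
      refine r3 K ?_ x (by simp only [List.length_cons] at hx; omega)
      intro y hy
      rcases Nat.lt_succ_iff_lt_or_eq.mp hy with h3 | h3
      · rw [hu'lt y h3]; exact hK y h3
      · rw [h3, hu'cur]
        unfold wprod
        exact K.list_prod_mem (fun z hz => by
          obtain ⟨s, hs, rfl⟩ := List.mem_map.mp hz
          exact hK s (hl s hs))

end Slp

/-! ### the orbits of the chain of stabilisers -/

/-- the edges `(p, q, s)` of the tree: the point `q` has been reached, the point `p` has not, the column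
`s` is one of the list and maps `q` to `p` -/
def treeK (TT : ℕ → ℕ → ℕ) (gens : List ℕ) (tree : List (ℕ × ℕ × ℕ)) : ℕ → Bool :=
  @List.rec (ℕ × ℕ × ℕ) (fun _ => ℕ → Bool) (fun _ => true)
    (fun e _ ih seen =>
      bitK seen e.2.1 && (!bitK seen e.1 && (anyListK gens (fun s => Nat.beq s e.2.2) &&
        (Nat.beq (TT e.2.2 e.2.1) e.1 && ih (Nat.lor seen (Nat.shiftLeft 1 e.1))))))
    tree

/-- one level: the columns of the list fix the earlier base points, and the tree is rooted at `b` -/
def levelK (TT : ℕ → ℕ → ℕ) (N tot : ℕ) (prev : List ℕ) (b : ℕ) (gens : List ℕ)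
    (tree : List (ℕ × ℕ × ℕ)) : Bool :=
  Nat.blt b N && (allListK gens (fun s => Nat.blt s tot &&
      allListK prev (fun b' => Nat.beq (TT s b') b')) &&
    treeK TT gens tree (Nat.shiftLeft 1 b))

/-- all levels, the list of the earlier base points growing -/
def levelsK (TT : ℕ → ℕ → ℕ) (N tot : ℕ) :
    List ℕ → List (ℕ × List ℕ × List (ℕ × ℕ × ℕ)) → Bool
  | _, [] => true
  | prev, (b, gens, tree) :: rest =>
    levelK TT N tot prev b gens tree && levelsK TT N tot (b :: prev) rest

theorem levelsK_nil (TT : ℕ → ℕ → ℕ) (N tot : ℕ) (prev : List ℕ) :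
    levelsK TT N tot prev [] = true := rfl

theorem levelsK_cons {TT : ℕ → ℕ → ℕ} {N tot : ℕ} {prev : List ℕ} {b : ℕ} {gens : List ℕ}
    {tree : List (ℕ × ℕ × ℕ)} {rest : List (ℕ × List ℕ × List (ℕ × ℕ × ℕ))}
    (h1 : levelK TT N tot prev b gens tree = true)
    (h2 : levelsK TT N tot (b :: prev) rest = true) :
    levelsK TT N tot prev ((b, gens, tree) :: rest) = true := by
  show (levelK TT N tot prev b gens tree && levelsK TT N tot (b :: prev) rest) = true
  rw [h1, h2]; rfl

section Levels

variable {G : Type*} [Group G] {N : ℕ} (hN : 0 < N) (ρ : G →* Equiv.Perm (Fin N))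
  (TT : ℕ → ℕ → ℕ) (u : ℕ → G) (tot : ℕ)
  (hu : ∀ x < tot, ∀ i : Fin N, ((ρ (u x) i : Fin N) : ℕ) = TT x i)

/-- a number as a point -/
def ptOf (j : ℕ) : Fin N := if h : j < N then ⟨j, h⟩ else ⟨0, hN⟩

theorem ptOf_val {j : ℕ} (h : j < N) : (ptOf hN j : Fin N).val = j := by
  unfold ptOf
  rw [dif_pos h]

theorem ptOf_of_val (i : Fin N) : ptOf hN i.val = i := by
  unfold ptOf
  rw [dif_pos i.isLt]

/-- the points marked in a bitmap -/
def markedSet (seen : ℕ) : Set (Fin N) := {i | seen.testBit i.val = true}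

theorem markedSet_insert (seen p : ℕ) (hp : p < N) :
    markedSet (N := N) (Nat.lor seen (Nat.shiftLeft 1 p)) = insert (ptOf hN p) (markedSet seen) := by
  ext i
  show (seen ||| 1 <<< p).testBit i.val = true ↔ i = ptOf hN p ∨ seen.testBit i.val = true
  rw [Nat.testBit_lor, Bool.or_eq_true, Nat.one_shiftLeft, Nat.testBit_two_pow]
  constructor
  · rintro (h | h)
    · exact Or.inr h
    · refine Or.inl (Fin.ext ?_)
      rw [ptOf_val hN hp]
      exact (of_decide_eq_true h).symm
  · rintro (h | h)
    · refine Or.inr (decide_eq_true ?_)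
      rw [h, ptOf_val hN hp]
    · exact Or.inl h

include hN hu in
theorem treeK_sound (K : Subgroup G) (gens : List ℕ) (hg : ∀ s ∈ gens, s < tot ∧ u s ∈ K) (b : Fin N) :
    ∀ (tree : List (ℕ × ℕ × ℕ)) (seen : ℕ),
      (∀ j, seen.testBit j = true → j < N) →
      (∀ i ∈ markedSet (N := N) seen, ∃ k ∈ K, ρ k b = i) →
      treeK TT gens tree seen = true →
      ∃ seen', (∀ i ∈ markedSet (N := N) seen', ∃ k ∈ K, ρ k b = i) ∧
        (markedSet (N := N) seen').ncard = (markedSet (N := N) seen).ncard + tree.length := by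
  intro tree
  induction tree with
  | nil => intro seen _ h _; exact ⟨seen, h, rfl⟩
  | cons e tree ih =>
    intro seen hlt hseen h
    have e0 : treeK TT gens (e :: tree) seen =
        (bitK seen e.2.1 && (!bitK seen e.1 && (anyListK gens (fun s => Nat.beq s e.2.2) &&
          (Nat.beq (TT e.2.2 e.2.1) e.1 &&
            treeK TT gens tree (Nat.lor seen (Nat.shiftLeft 1 e.1)))))) := rfl
    rw [e0] at h
    simp only [Bool.and_eq_true, Bool.not_eq_true'] at h
    obtain ⟨hq, hp, hs, hmap, hrest⟩ := h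
    obtain ⟨s, hsg, hse⟩ := (anyListK_iff gens _).mp hs
    have hse' : s = e.2.2 := Nat.eq_of_beq_eq_true hse
    obtain ⟨hst, hsK⟩ := hg s hsg
    have hq' : seen.testBit e.2.1 = true := (bitK_iff seen _).mp hq
    have hqN : e.2.1 < N := hlt _ hq'
    have hqm : (⟨e.2.1, hqN⟩ : Fin N) ∈ markedSet (N := N) seen := hq'
    obtain ⟨k, hk, hkb⟩ := hseen _ hqm
    have hpval : ((ρ (u s) ⟨e.2.1, hqN⟩ : Fin N) : ℕ) = e.1 := by
      rw [hu s hst ⟨e.2.1, hqN⟩, hse']
      exact Nat.eq_of_beq_eq_true hmap
    have hpN : e.1 < N := by rw [← hpval]; exact (ρ (u s) ⟨e.2.1, hqN⟩).isLt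
    have hpt : ptOf hN e.1 = ρ (u s) ⟨e.2.1, hqN⟩ := by
      apply Fin.ext
      rw [ptOf_val hN hpN, hpval]
    have hnew : ptOf hN e.1 ∉ markedSet (N := N) seen := by
      intro hmem
      have : seen.testBit (ptOf hN e.1 : Fin N).val = true := hmem
      rw [ptOf_val hN hpN] at this
      have h2 : bitK seen e.1 = true := (bitK_iff seen _).mpr this
      rw [hp] at h2
      exact Bool.false_ne_true h2
    have hlt' : ∀ j, (Nat.lor seen (Nat.shiftLeft 1 e.1)).testBit j = true → j < N := by
      intro j hj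
      have hj' : (seen ||| 1 <<< e.1).testBit j = true := hj
      rw [Nat.testBit_lor, Bool.or_eq_true, Nat.one_shiftLeft, Nat.testBit_two_pow] at hj'
      rcases hj' with hj' | hj'
      · exact hlt j hj'
      · rw [← of_decide_eq_true hj']; exact hpN
    have hseen' : ∀ i ∈ markedSet (N := N) (Nat.lor seen (Nat.shiftLeft 1 e.1)),
        ∃ k ∈ K, ρ k b = i := by
      intro i hi
      rw [markedSet_insert hN seen e.1 hpN] at hi
      rcases hi with hi | hi
      · refine ⟨u s * k, K.mul_mem hsK hk, ?_⟩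
        rw [map_mul, Equiv.Perm.mul_apply, hkb, hi, hpt]
      · exact hseen i hi
    obtain ⟨seen', h1, h2⟩ := ih _ hlt' hseen' hrest
    refine ⟨seen', h1, ?_⟩
    rw [h2, markedSet_insert hN seen e.1 hpN,
      Set.ncard_insert_of_notMem hnew (Set.toFinite _)]
    simp only [List.length_cons]
    omega

include hN hu in
theorem level_sound (K : Subgroup G) (prev : List ℕ) (hprev : ∀ b' ∈ prev, b' < N)
    (hK : ∀ γ : G, (∀ b' ∈ prev, ρ γ (ptOf hN b') = ptOf hN b') → γ ∈ K)
    (b : ℕ) (gens : List ℕ) (tree : List (ℕ × ℕ × ℕ))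
    (h : levelK TT N tot prev b gens tree = true) :
    b < N ∧ tree.length + 1 ≤ {i : Fin N | ∃ k ∈ K, ρ k (ptOf hN b) = i}.ncard := by
  unfold levelK at h
  simp only [Bool.and_eq_true] at h
  obtain ⟨hb, hgens, htree⟩ := h
  have hbN : b < N := Nat.le_of_ble_eq_true hb
  refine ⟨hbN, ?_⟩
  have hg : ∀ s ∈ gens, s < tot ∧ u s ∈ K := by
    intro s hs
    have h1 := (allListK_iff gens _).mp hgens s hs
    rw [Bool.and_eq_true] at h1
    have hst : s < tot := Nat.le_of_ble_eq_true h1.1
    refine ⟨hst, hK _ (fun b' hb' => ?_)⟩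
    apply Fin.ext
    rw [hu s hst, ptOf_val hN (hprev b' hb')]
    exact Nat.eq_of_beq_eq_true ((allListK_iff prev _).mp h1.2 b' hb')
  have hstart : markedSet (N := N) (Nat.shiftLeft 1 b) = {ptOf hN b} := by
    ext i
    show (1 <<< b).testBit i.val = true ↔ i = ptOf hN b
    rw [Nat.one_shiftLeft, Nat.testBit_two_pow]
    constructor
    · intro h1
      apply Fin.ext
      rw [ptOf_val hN hbN]
      exact (of_decide_eq_true h1).symm
    · intro h1
      rw [h1, ptOf_val hN hbN]
      exact decide_eq_true rfl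
  obtain ⟨seen', h1, h2⟩ := treeK_sound hN ρ TT u tot hu K gens hg (ptOf hN b) tree
    (Nat.shiftLeft 1 b) (by
      intro j hj
      have hj' : (1 <<< b).testBit j = true := hj
      rw [Nat.one_shiftLeft, Nat.testBit_two_pow] at hj'
      rw [← of_decide_eq_true hj']; exact hbN) (by
      intro i hi
      rw [hstart] at hi
      refine ⟨1, K.one_mem, ?_⟩
      rw [map_one, Set.mem_singleton_iff.mp hi]
      rfl) htree
  rw [hstart, Set.ncard_singleton] at h2
  have h3 : (markedSet (N := N) seen').ncard ≤ {i : Fin N | ∃ k ∈ K, ρ k (ptOf hN b) = i}.ncard :=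
    Set.ncard_le_ncard (fun i hi => h1 i hi) (Set.toFinite _)
  omega

include hN hu in
theorem levels_sound : ∀ (levels : List (ℕ × List ℕ × List (ℕ × ℕ × ℕ))) (prev : List ℕ)
    (K : Subgroup G), (∀ b' ∈ prev, b' < N) →
    (∀ γ : G, (∀ b' ∈ prev, ρ γ (ptOf hN b') = ptOf hN b') → γ ∈ K) →
    levelsK TT N tot prev levels = true →
    @ChainOK G (Fin N) _ (MulAction.compHom (Fin N) ρ) K
      (levels.map (fun L => (ptOf hN L.1, L.2.2.length + 1)))
  | [], _, _, _, _, _ => trivial
  | (b, gens, tree) :: rest, prev, K, hprev, hK, h => by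
    letI : MulAction G (Fin N) := MulAction.compHom (Fin N) ρ
    have e : levelsK TT N tot prev ((b, gens, tree) :: rest) =
        (levelK TT N tot prev b gens tree && levelsK TT N tot (b :: prev) rest) := rfl
    rw [e, Bool.and_eq_true] at h
    obtain ⟨h1, h2⟩ := h
    obtain ⟨hbN, hcard⟩ := level_sound hN ρ TT u tot hu K prev hprev hK b gens tree h1
    refine ⟨?_, ?_⟩
    · have : MulAction.orbit K (ptOf hN b) = {i : Fin N | ∃ k ∈ K, ρ k (ptOf hN b) = i} := by
        ext i
        rw [mem_orbit_subgroup]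
        rfl
      rw [this]
      exact hcard
    · refine levels_sound rest (b :: prev) (K ⊓ MulAction.stabilizer G (ptOf hN b)) ?_ ?_ h2
      · intro b' hb'
        rcases List.mem_cons.mp hb' with rfl | hb'
        · exact hbN
        · exact hprev b' hb'
      · intro γ hγ
        refine ⟨hK γ (fun b' hb' => hγ b' (List.mem_cons_of_mem _ hb')), ?_⟩
        exact hγ b List.mem_cons_self

include hN hu in
/-- the lower bound for the order of the group, and the injectivity of the representation if the bound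
is attained -/
theorem order_lower [Finite G] (levels : List (ℕ × List ℕ × List (ℕ × ℕ × ℕ)))
    (h : levelsK TT N tot [] levels = true) :
    (levels.map (fun L => L.2.2.length + 1)).prod ≤ Nat.card G ∧
    (Nat.card G ≤ (levels.map (fun L => L.2.2.length + 1)).prod → Function.Injective ρ) := by
  letI : MulAction G (Fin N) := MulAction.compHom (Fin N) ρ
  have hc := levels_sound hN ρ TT u tot hu levels [] ⊤ (fun _ h => absurd h List.not_mem_nil)
    (fun γ _ => Subgroup.mem_top γ) h
  obtain ⟨h1, h2⟩ := chain_top _ hc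
  have e : ((levels.map (fun L => (ptOf hN L.1, L.2.2.length + 1))).map Prod.snd) =
      levels.map (fun L => L.2.2.length + 1) := by
    rw [List.map_map]; rfl
  rw [e] at h1 h2
  refine ⟨h1, fun h3 => ?_⟩
  rw [injective_iff_map_eq_one]
  intro γ hγ
  refine h2 h3 γ (fun x => ?_)
  show ρ γ x = x
  rw [hγ]; rfl

end Levels

end Cfsg.Agent.Lib.Helper12.TC.Fn
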