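import Cfsg.Agent.Lib.Helper12.TC.Fn.Lower

/-!
Function tables: the checks for the lower bound of the order split into parts, with the bitmaps handed
over as literals (helper12).
-/

set_option autoImplicit false

namespace Cfsg.Agent.Lib.Helper12.TC.Fn

open Cfsg.Agent.Lib.Helper12.TC Cfsg.Agent.Lib.Helper12.Ord

/-! ### columns as products, by ranges of points -/

/-- the column `cur` agrees with the word `w` on the points `lo + j`, `j < n` -/
def slpColK (TT : ℕ → ℕ → ℕ) (cur : ℕ) (w : List ℕ) (lo n : ℕ) : Bool :=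
  allBelowK n (fun j => forceN (Nat.add lo j) (fun i => Nat.beq (TT cur i) (applyW TT w i)))

/-- the column `cur` agrees with the word `w` on the points below `hi` -/
def ColOK (TT : ℕ → ℕ → ℕ) (cur : ℕ) (w : List ℕ) (hi : ℕ) : Prop :=
  ∀ i < hi, TT cur i = applyW TT w i

theorem colOK_start (TT : ℕ → ℕ → ℕ) (cur : ℕ) (w : List ℕ) : ColOK TT cur w 0 :=
  fun i hi => absurd hi (Nat.not_lt_zero i)

theorem colOK_step {TT : ℕ → ℕ → ℕ} {cur : ℕ} {w : List ℕ} {lo n hi : ℕ}
    (h : slpColK TT cur w lo n = true) (hhi : lo + n = hi) (hprev : ColOK TT cur w lo) :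
    ColOK TT cur w hi := by
  intro i hi'
  rcases Nat.lt_or_ge i lo with h1 | h1
  · exact hprev i h1
  · have h2 := (allBelowK_iff n _).mp h (i - lo) (by omega)
    rw [forceN_eq] at h2
    have h3 : Nat.add lo (i - lo) = i := by show lo + (i - lo) = i; omega
    rw [h3] at h2
    exact Nat.eq_of_beq_eq_true h2

theorem slpStepK_of_colOK {TT : ℕ → ℕ → ℕ} {N cur : ℕ} {w : List ℕ}
    (hlet : allListK w (fun s => Nat.blt s cur) = true) (h : ColOK TT cur w N) :
    slpStepK TT N cur w = true := by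
  unfold slpStepK
  rw [hlet, Bool.true_and]
  refine (allBelowK_iff N _).mpr (fun i hi => ?_)
  rw [h i hi]
  exact Nat.beq_refl _

/-! ### the values of the new columns -/

theorem slpRun_stable {G : Type*} [Group G] : ∀ (prog : List (List ℕ)) (cur : ℕ) (u : ℕ → G),
    ∀ x < cur, slpRun prog cur u x = u x
  | [], _, _, _, _ => rfl
  | w :: rest, cur, u, x, hx => by
    show slpRun rest (cur + 1) (Function.update u cur (wprod u w)) x = u x
    rw [slpRun_stable rest (cur + 1) _ x (by omega), Function.update_of_ne (Nat.ne_of_lt hx)]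

/-- the letters of the words are earlier columns -/
def slpLettersK : ℕ → List (List ℕ) → Bool
  | _, [] => true
  | cur, w :: rest => allListK w (fun s => Nat.blt s cur) && slpLettersK (cur + 1) rest

theorem slpRun_spec {G : Type*} [Group G] : ∀ (prog : List (List ℕ)) (cur : ℕ) (u : ℕ → G),
    slpLettersK cur prog = true →
    ∀ (k : ℕ) (w : List ℕ), prog[k]? = some w →
      slpRun prog cur u (cur + k) = wprod (slpRun prog cur u) w
  | [], _, _, _, k, w, hk => by simp at hk
  | w0 :: rest, cur, u, h, k, w, hk => by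
    have e : slpLettersK cur (w0 :: rest) =
        (allListK w0 (fun s => Nat.blt s cur) && slpLettersK (cur + 1) rest) := rfl
    rw [e, Bool.and_eq_true] at h
    obtain ⟨h1, h2⟩ := h
    have hl : ∀ s ∈ w0, s < cur := fun s hs =>
      Nat.le_of_ble_eq_true ((allListK_iff w0 _).mp h1 s hs)
    set u' : ℕ → G := Function.update u cur (wprod u w0) with hu'
    have hrun : slpRun (w0 :: rest) cur u = slpRun rest (cur + 1) u' := rfl
    rw [hrun]
    cases k with
    | zero =>
      simp only [List.getElem?_cons_zero, Option.some.injEq] at hk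
      subst hk
      show slpRun rest (cur + 1) u' cur = _
      rw [slpRun_stable rest (cur + 1) u' cur (by omega)]
      have h3 : u' cur = wprod u w0 := by rw [hu', Function.update_self]
      rw [h3]
      refine wprod_congr _ _ _ (fun s hs => ?_)
      rw [slpRun_stable rest (cur + 1) _ s (by have := hl s hs; omega), hu',
        Function.update_of_ne (Nat.ne_of_lt (hl s hs))]
    | succ k =>
      simp only [List.getElem?_cons_succ] at hk
      have := slpRun_spec rest (cur + 1) u' h2 k w hk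
      rw [show cur + (k + 1) = cur + 1 + k by omega]
      exact this

/-! ### the trees in parts -/

/-- a part of a tree: as `treeK`, the final bitmap goes to `Kt` -/
def treePartK (TT : ℕ → ℕ → ℕ) (gens : List ℕ) (tree : List (ℕ × ℕ × ℕ)) :
    ℕ → (ℕ → Bool) → Bool :=
  @List.rec (ℕ × ℕ × ℕ) (fun _ => ℕ → (ℕ → Bool) → Bool) (fun seen Kt => Kt seen)
    (fun e _ ih seen Kt =>
      bitK seen e.2.1 && (!bitK seen e.1 && (anyListK gens (fun s => Nat.beq s e.2.2) &&
        (Nat.beq (TT e.2.2 e.2.1) e.1 && ih (Nat.lor seen (Nat.shiftLeft 1 e.1)) Kt))))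
    tree

/-- the columns of the list are below `tot` and fix the earlier base points -/
def gensK (TT : ℕ → ℕ → ℕ) (tot : ℕ) (prev : List ℕ) (gens : List ℕ) : Bool :=
  allListK gens (fun s => Nat.blt s tot && allListK prev (fun b' => Nat.beq (TT s b') b'))

section Levels

variable {G : Type*} [Group G] {N : ℕ} (hN : 0 < N) (ρ : G →* Equiv.Perm (Fin N))
  (TT : ℕ → ℕ → ℕ) (u : ℕ → G) (tot : ℕ)
  (hu : ∀ x < tot, ∀ i : Fin N, ((ρ (u x) i : Fin N) : ℕ) = TT x i)

/-- the marked points are `n` points of the orbit of `b` under every subgroup containing the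
elements of the list -/
def TreeOK (gens : List ℕ) (b : ℕ) (seen n : ℕ) : Prop :=
  ∀ K : Subgroup G, (∀ s ∈ gens, s < tot ∧ u s ∈ K) →
    (∀ j, seen.testBit j = true → j < N) ∧
    (∀ i ∈ markedSet (N := N) seen, ∃ k ∈ K, ρ k (ptOf hN b) = i) ∧
    (markedSet (N := N) seen).ncard = n

theorem treeOK_start (gens : List ℕ) (b : ℕ) (hb : b < N) :
    TreeOK hN ρ u tot gens b (Nat.shiftLeft 1 b) 1 := by
  intro K _
  have hstart : markedSet (N := N) (Nat.shiftLeft 1 b) = {ptOf hN b} := by
    ext i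
    show (1 <<< b).testBit i.val = true ↔ i = ptOf hN b
    rw [Nat.one_shiftLeft, Nat.testBit_two_pow]
    constructor
    · intro h1
      apply Fin.ext
      rw [ptOf_val hN hb]
      exact (of_decide_eq_true h1).symm
    · intro h1
      rw [h1, ptOf_val hN hb]
      exact decide_eq_true rfl
  refine ⟨?_, ?_, ?_⟩
  · intro j hj
    have hj' : (1 <<< b).testBit j = true := hj
    rw [Nat.one_shiftLeft, Nat.testBit_two_pow] at hj'
    rw [← of_decide_eq_true hj']; exact hb
  · intro i hi
    rw [hstart] at hi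
    refine ⟨1, K.one_mem, ?_⟩
    rw [map_one, Set.mem_singleton_iff.mp hi]
    rfl
  · rw [hstart, Set.ncard_singleton]

include hN hu in
theorem treePartK_sound (K : Subgroup G) (gens : List ℕ) (hg : ∀ s ∈ gens, s < tot ∧ u s ∈ K)
    (b : Fin N) (Kt : ℕ → Bool) :
    ∀ (tree : List (ℕ × ℕ × ℕ)) (seen : ℕ),
      (∀ j, seen.testBit j = true → j < N) →
      (∀ i ∈ markedSet (N := N) seen, ∃ k ∈ K, ρ k b = i) →
      treePartK TT gens tree seen Kt = true →
      ∃ seen', Kt seen' = true ∧ (∀ j, seen'.testBit j = true → j < N) ∧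
        (∀ i ∈ markedSet (N := N) seen', ∃ k ∈ K, ρ k b = i) ∧
        (markedSet (N := N) seen').ncard = (markedSet (N := N) seen).ncard + tree.length := by
  intro tree
  induction tree with
  | nil => intro seen hlt h hk; exact ⟨seen, hk, hlt, h, rfl⟩
  | cons e tree ih =>
    intro seen hlt hseen h
    have e0 : treePartK TT gens (e :: tree) seen Kt =
        (bitK seen e.2.1 && (!bitK seen e.1 && (anyListK gens (fun s => Nat.beq s e.2.2) &&
          (Nat.beq (TT e.2.2 e.2.1) e.1 &&
            treePartK TT gens tree (Nat.lor seen (Nat.shiftLeft 1 e.1)) Kt)))) := rfl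
    rw [e0] at h
    simp only [Bool.and_eq_true, Bool.not_eq_true'] at h
    obtain ⟨hq, hp, hs, hmap, hrest⟩ := h
    obtain ⟨s, hsg, hse⟩ := (anyListK_iff gens _).mp hs
    have hse' : s = e.2.2 := Nat.eq_of_beq_eq_true hse
    obtain ⟨hst, hsK⟩ := hg s hsg
    have hq' : seen.testBit e.2.1 = true := (bitK_iff seen _).mp hq
    have hqN : e.2.1 < N := hlt _ hq'
    have hqm : (⟨e.2.1, hqN⟩ : Fin N) ∈ markedSet (N := N) seen := hq'
    obtain ⟨k, hk, hkb⟩ := hseen _ hqm
    have hpval : ((ρ (u s) ⟨e.2.1, hqN⟩ : Fin N) : ℕ) = e.1 := by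
      rw [hu s hst ⟨e.2.1, hqN⟩, hse']
      exact Nat.eq_of_beq_eq_true hmap
    have hpN : e.1 < N := by rw [← hpval]; exact (ρ (u s) ⟨e.2.1, hqN⟩).isLt
    have hpt : ptOf hN e.1 = ρ (u s) ⟨e.2.1, hqN⟩ := by
      apply Fin.ext
      rw [ptOf_val hN hpN, hpval]
    have hnew : ptOf hN e.1 ∉ markedSet (N := N) seen := by
      intro hmem
      have : seen.testBit (ptOf hN e.1 : Fin N).val = true := hmem
      rw [ptOf_val hN hpN] at this
      have h2 : bitK seen e.1 = true := (bitK_iff seen _).mpr this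
      rw [hp] at h2
      exact Bool.false_ne_true h2
    have hlt' : ∀ j, (Nat.lor seen (Nat.shiftLeft 1 e.1)).testBit j = true → j < N := by
      intro j hj
      have hj' : (seen ||| 1 <<< e.1).testBit j = true := hj
      rw [Nat.testBit_lor, Bool.or_eq_true, Nat.one_shiftLeft, Nat.testBit_two_pow] at hj'
      rcases hj' with hj' | hj'
      · exact hlt j hj'
      · rw [← of_decide_eq_true hj']; exact hpN
    have hseen' : ∀ i ∈ markedSet (N := N) (Nat.lor seen (Nat.shiftLeft 1 e.1)),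
        ∃ k ∈ K, ρ k b = i := by
      intro i hi
      rw [markedSet_insert hN seen e.1 hpN] at hi
      rcases hi with hi | hi
      · refine ⟨u s * k, K.mul_mem hsK hk, ?_⟩
        rw [map_mul, Equiv.Perm.mul_apply, hkb, hi, hpt]
      · exact hseen i hi
    obtain ⟨seen', hk', hlt'', h1, h2⟩ := ih _ hlt' hseen' hrest
    refine ⟨seen', hk', hlt'', h1, ?_⟩
    rw [h2, markedSet_insert hN seen e.1 hpN,
      Set.ncard_insert_of_notMem hnew (Set.toFinite _)]
    simp only [List.length_cons]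
    omega

include hu in
theorem treeOK_step {gens : List ℕ} {b : ℕ} {tree : List (ℕ × ℕ × ℕ)} {s₁ s₂ n n' : ℕ}
    (h : treePartK TT gens tree s₁ (fun s => Nat.beq s s₂) = true) (hn : n + tree.length = n')
    (hprev : TreeOK hN ρ u tot gens b s₁ n) : TreeOK hN ρ u tot gens b s₂ n' := by
  intro K hg
  obtain ⟨h1, h2, h3⟩ := hprev K hg
  obtain ⟨seen', hk, h4, h5, h6⟩ :=
    treePartK_sound hN ρ TT u tot hu K gens hg (ptOf hN b) _ tree s₁ h1 h2 h
  have hs : seen' = s₂ := Nat.eq_of_beq_eq_true hk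
  rw [hs] at h4 h5 h6
  exact ⟨h4, h5, by rw [h6, h3, hn]⟩

/-- one level of the chain: a lower bound for the orbit of `b` under any subgroup containing the
stabiliser of the earlier base points -/
def LevelOK (prev : List ℕ) (b n : ℕ) : Prop :=
  b < N ∧ ∀ K : Subgroup G,
    (∀ γ : G, (∀ b' ∈ prev, ρ γ (ptOf hN b') = ptOf hN b') → γ ∈ K) →
    n ≤ {i : Fin N | ∃ k ∈ K, ρ k (ptOf hN b) = i}.ncard

include hu in
theorem levelOK_of_tree {prev : List ℕ} (hprev : allListK prev (fun b' => Nat.blt b' N) = true)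
    {b : ℕ} (hb : Nat.blt b N = true) {gens : List ℕ}
    (hgens : gensK TT tot prev gens = true) {seen n : ℕ}
    (htree : TreeOK hN ρ u tot gens b seen n) : LevelOK hN ρ prev b n := by
  have hbN : b < N := Nat.le_of_ble_eq_true hb
  refine ⟨hbN, fun K hK => ?_⟩
  have hg : ∀ s ∈ gens, s < tot ∧ u s ∈ K := by
    intro s hs
    have h1 := (allListK_iff gens _).mp hgens s hs
    rw [Bool.and_eq_true] at h1
    have hst : s < tot := Nat.le_of_ble_eq_true h1.1
    refine ⟨hst, hK _ (fun b' hb' => ?_)⟩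
    apply Fin.ext
    have hb'N : b' < N := Nat.le_of_ble_eq_true ((allListK_iff prev _).mp hprev b' hb')
    rw [hu s hst, ptOf_val hN hb'N]
    exact Nat.eq_of_beq_eq_true ((allListK_iff prev _).mp h1.2 b' hb')
  obtain ⟨_, h2, h3⟩ := htree K hg
  rw [← h3]
  exact Set.ncard_le_ncard (fun i hi => h2 i hi) (Set.toFinite _)

/-- all levels, the list of the earlier base points growing -/
def LevelsOK : List ℕ → List (ℕ × ℕ) → Prop
  | _, [] => True
  | prev, (b, n) :: rest => LevelOK hN ρ prev b n ∧ LevelsOK (b :: prev) rest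

theorem levelsOK_nil (prev : List ℕ) : LevelsOK hN ρ prev [] := trivial

theorem levelsOK_cons {prev : List ℕ} {b n : ℕ} {rest : List (ℕ × ℕ)}
    (h1 : LevelOK hN ρ prev b n) (h2 : LevelsOK hN ρ (b :: prev) rest) :
    LevelsOK hN ρ prev ((b, n) :: rest) := ⟨h1, h2⟩

theorem levelsOK_chain : ∀ (levels : List (ℕ × ℕ)) (prev : List ℕ) (K : Subgroup G),
    (∀ γ : G, (∀ b' ∈ prev, ρ γ (ptOf hN b') = ptOf hN b') → γ ∈ K) →
    LevelsOK hN ρ prev levels →
    @ChainOK G (Fin N) _ (MulAction.compHom (Fin N) ρ) K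
      (levels.map (fun L => (ptOf hN L.1, L.2)))
  | [], _, _, _, _ => trivial
  | (b, n) :: rest, prev, K, hK, h => by
    let _ : MulAction G (Fin N) := MulAction.compHom (Fin N) ρ
    obtain ⟨⟨hbN, h1⟩, h2⟩ := h
    refine ⟨?_, ?_⟩
    · have : MulAction.orbit K (ptOf hN b) = {i : Fin N | ∃ k ∈ K, ρ k (ptOf hN b) = i} := by
        ext i
        rw [mem_orbit_subgroup]
        rfl
      rw [this]
      exact h1 K hK
    · refine levelsOK_chain rest (b :: prev) (K ⊓ MulAction.stabilizer G (ptOf hN b)) ?_ h2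
      intro γ hγ
      refine ⟨hK γ (fun b' hb' => hγ b' (List.mem_cons_of_mem _ hb')), ?_⟩
      exact hγ b List.mem_cons_self

/-- the lower bound for the order of the group, and the injectivity of the representation if the bound
is attained -/
theorem order_lower_parts [Finite G] (levels : List (ℕ × ℕ)) (h : LevelsOK hN ρ [] levels) :
    (levels.map Prod.snd).prod ≤ Nat.card G ∧
    (Nat.card G ≤ (levels.map Prod.snd).prod → Function.Injective ρ) := by
  let _ : MulAction G (Fin N) := MulAction.compHom (Fin N) ρ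
  have hc := levelsOK_chain hN ρ levels [] ⊤ (fun γ _ => Subgroup.mem_top γ) h
  obtain ⟨h1, h2⟩ := chain_top _ hc
  have e : ((levels.map (fun L => (ptOf hN L.1, L.2))).map Prod.snd) = levels.map Prod.snd := by
    rw [List.map_map]; rfl
  rw [e] at h1 h2
  refine ⟨h1, fun h3 => ?_⟩
  rw [injective_iff_map_eq_one]
  intro γ hγ
  refine h2 h3 γ (fun x => ?_)
  show ρ γ x = x
  rw [hγ]; rfl

end Levels

/-! ### equality of words as permutations -/

/-- the words `w₁` and `w₂` agree on the points `lo + j`, `j < n` -/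
def eqWordsK (TT : ℕ → ℕ → ℕ) (w₁ w₂ : List ℕ) (lo n : ℕ) : Bool :=
  allBelowK n (fun j => forceN (Nat.add lo j) (fun i =>
    Nat.beq (applyW TT w₁ i) (applyW TT w₂ i)))

/-- the words `w₁` and `w₂` agree on the points below `hi` -/
def WordsEq (TT : ℕ → ℕ → ℕ) (w₁ w₂ : List ℕ) (hi : ℕ) : Prop :=
  ∀ i < hi, applyW TT w₁ i = applyW TT w₂ i

theorem wordsEq_start (TT : ℕ → ℕ → ℕ) (w₁ w₂ : List ℕ) : WordsEq TT w₁ w₂ 0 :=
  fun i hi => absurd hi (Nat.not_lt_zero i)

theorem wordsEq_step {TT : ℕ → ℕ → ℕ} {w₁ w₂ : List ℕ} {lo n hi : ℕ}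
    (h : eqWordsK TT w₁ w₂ lo n = true) (hhi : lo + n = hi) (hprev : WordsEq TT w₁ w₂ lo) :
    WordsEq TT w₁ w₂ hi := by
  intro i hi'
  rcases Nat.lt_or_ge i lo with h1 | h1
  · exact hprev i h1
  · have h2 := (allBelowK_iff n _).mp h (i - lo) (by omega)
    rw [forceN_eq] at h2
    have h3 : Nat.add lo (i - lo) = i := by show lo + (i - lo) = i; omega
    rw [h3] at h2
    exact Nat.eq_of_beq_eq_true h2

theorem rho_wprod_eq {G : Type*} [Group G] {N : ℕ} (ρ : G →* Equiv.Perm (Fin N))
    (TT : ℕ → ℕ → ℕ) (u : ℕ → G) (tot : ℕ)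
    (hu : ∀ x < tot, ∀ i : Fin N, ((ρ (u x) i : Fin N) : ℕ) = TT x i) {w₁ w₂ : List ℕ}
    (hl₁ : allListK w₁ (fun s => Nat.blt s tot) = true)
    (hl₂ : allListK w₂ (fun s => Nat.blt s tot) = true) (h : WordsEq TT w₁ w₂ N) :
    ρ (wprod u w₁) = ρ (wprod u w₂) := by
  ext i
  rw [rho_word u ρ hu w₁ (fun s hs => Nat.le_of_ble_eq_true ((allListK_iff w₁ _).mp hl₁ s hs)) i,
    rho_word u ρ hu w₂ (fun s hs => Nat.le_of_ble_eq_true ((allListK_iff w₂ _).mp hl₂ s hs)) i]
  exact h i.val i.isLt

end Cfsg.Agent.Lib.Helper12.TC.Fn
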