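import Cfsg.Agent.Lib.Helper12.TC.Fn.LowerParts

/-!
If the lower bound for the order of a group from a chain of point stabilisers is attained, then an element of the
group fixing the base points is trivial (helper12).
-/

set_option autoImplicit false

namespace Cfsg.Agent.Lib.Helper12.Ord

open MulAction

variable {G X : Type*} [Group G] [MulAction G X]

/-- elements fixing the base points lie in the end of the chain -/
theorem mem_chainEnd_base (K : Subgroup G) (l : List (X × ℕ)) (γ : G) (hK : γ ∈ K)
    (hfix : ∀ p ∈ l, γ • p.1 = p.1) : γ ∈ chainEnd K l := by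
  induction l generalizing K with
  | nil => exact hK
  | cons p l ih =>
    obtain ⟨b, m⟩ := p
    exact ih _ ⟨hK, hfix (b, m) List.mem_cons_self⟩ (fun p hp => hfix p (List.mem_cons_of_mem _ hp))

/-- if the bound is attained, the elements fixing the base points are trivial -/
theorem chain_top_base [Finite G] (l : List (X × ℕ)) (h : ChainOK (⊤ : Subgroup G) l)
    (h2 : Nat.card G ≤ (l.map Prod.snd).prod) (γ : G) (hγ : ∀ p ∈ l, γ • p.1 = p.1) : γ = 1 := by
  have h1 := chain_bound l ⊤ h
  rw [Subgroup.card_top] at h1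
  have hGpos : 0 < Nat.card G := Nat.card_pos
  have h3 : Nat.card ↥(chainEnd (⊤ : Subgroup G) l) ≤ 1 := by
    by_contra h4
    have h5 : 2 ≤ Nat.card ↥(chainEnd (⊤ : Subgroup G) l) := by omega
    have h6 : (l.map Prod.snd).prod * 2 ≤ Nat.card G :=
      le_trans (Nat.mul_le_mul_left _ h5) h1
    have hprodpos : 0 < (l.map Prod.snd).prod := by
      by_contra h0
      have : (l.map Prod.snd).prod = 0 := by omega
      omega
    omega
  have h4 : chainEnd (⊤ : Subgroup G) l = ⊥ := by
    rw [← Subgroup.card_le_one_iff_eq_bot]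
    exact h3
  have h5 := mem_chainEnd_base ⊤ l γ (Subgroup.mem_top γ) hγ
  rw [h4] at h5
  exact h5

end Cfsg.Agent.Lib.Helper12.Ord

namespace Cfsg.Agent.Lib.Helper12.TC.Fn

open Cfsg.Agent.Lib.Helper12.Ord

variable {G : Type*} [Group G] {N : ℕ} (hN : 0 < N) (ρ : G →* Equiv.Perm (Fin N))

/-- if the lower bound for the order is attained, an element fixing the base points is trivial -/
theorem base_trivial [Finite G] (levels : List (ℕ × ℕ)) (h : LevelsOK hN ρ [] levels)
    (hc : Nat.card G ≤ (levels.map Prod.snd).prod) (γ : G)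
    (hfix : ∀ L ∈ levels, ρ γ (ptOf hN L.1) = ptOf hN L.1) : γ = 1 := by
  let _ : MulAction G (Fin N) := MulAction.compHom (Fin N) ρ
  have hch := levelsOK_chain hN ρ levels [] ⊤ (fun γ _ => Subgroup.mem_top γ) h
  have e : ((levels.map (fun L => (ptOf hN L.1, L.2))).map Prod.snd) = levels.map Prod.snd := by
    rw [List.map_map]; rfl
  refine chain_top_base _ hch (by rw [e]; exact hc) γ ?_
  intro p hp
  obtain ⟨L, hL, rfl⟩ := List.mem_map.mp hp
  exact hfix L hL

/-- a word in the generators which fixes the base points is trivial, if the lower bound for the order is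
attained -/
theorem word_trivial [Finite G] (TT : ℕ → ℕ → ℕ) (u : ℕ → G) (tot : ℕ)
    (hu : ∀ x < tot, ∀ i : Fin N, ((ρ (u x) i : Fin N) : ℕ) = TT x i)
    (levels : List (ℕ × ℕ)) (h : LevelsOK hN ρ [] levels)
    (hc : Nat.card G ≤ (levels.map Prod.snd).prod) (w : List ℕ)
    (hl : allListK w (fun s => Nat.blt s tot) = true)
    (hfix : allListK levels (fun L => Nat.blt L.1 N && Nat.beq (applyW TT w L.1) L.1) = true) :
    wprod u w = 1 := by
  refine base_trivial hN ρ levels h hc _ (fun L hL => ?_)
  have h1 := (allListK_iff levels _).mp hfix L hL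
  rw [Bool.and_eq_true] at h1
  have hLN : L.1 < N := Nat.le_of_ble_eq_true h1.1
  apply Fin.ext
  rw [rho_word u ρ hu w (fun s hs => Nat.le_of_ble_eq_true ((allListK_iff w _).mp hl s hs)),
    ptOf_val hN hLN]
  exact Nat.eq_of_beq_eq_true h1.2

end Cfsg.Agent.Lib.Helper12.TC.Fn
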