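import Cfsg.Agent.Lib.Helper12.TC.Fn.Main
import Cfsg.Agent.Lib.Helper12.TC.Marks

/-!
Function tables: marking check (helper12; generated from the list based versions, the table is an arbitrary function here).
-/

set_option autoImplicit false

namespace Cfsg.Agent.Lib.Helper12.TC.Fn

open Cfsg.Agent.Lib.Helper12.TC

theorem applyW_append (TT : ℕ → ℕ → ℕ) (l₁ l₂ : List ℕ) (i : ℕ) :
    applyW TT (l₁ ++ l₂) i = applyW TT l₁ (applyW TT l₂ i) := by
  induction l₁ with
  | nil => rfl
  | cons x l ih =>
    show applyW TT (x :: (l ++ l₂)) i = applyW TT (x :: l) (applyW TT l₂ i)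
    rw [applyW_cons, applyW_cons, ih]


theorem applyW_wpow (TT : ℕ → ℕ → ℕ) (w : List ℕ) (k i : ℕ) :
    applyW TT (wpow w k) i = (applyW TT w)^[k] i := by
  induction k generalizing i with
  | zero => rfl
  | succ k ih =>
    have e : wpow w (k+1) = w ++ wpow w k := rfl
    rw [e, applyW_append, ih, Function.iterate_succ_apply']


/-- trace the word `w` from the point `i`: `n` more steps from `cur`, the points met are marked in
`seen`; at the end the trace has to be back at `i` -/
def traceK (TT : ℕ → ℕ → ℕ) (w : List ℕ) (i : ℕ) (n : ℕ) : ℕ → ℕ → (ℕ → Bool) → Bool :=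
  @Nat.rec (fun _ => ℕ → ℕ → (ℕ → Bool) → Bool)
    (fun cur seen K => @Bool.rec (fun _ => Bool) false (K seen) (Nat.beq cur i))
    (fun _ ih cur seen K =>
      forceN (applyW TT w cur) (fun c => ih c (Nat.lor seen (Nat.shiftLeft 1 c)) K))
    n


/-- trace the cycles of `w` through all points below `N` which are not yet marked (the bitmap is not
forced: big literals with equal low bits would collide in the caches of the kernel) -/
def markAllK (TT : ℕ → ℕ → ℕ) (w : List ℕ) (k N : ℕ) : ℕ → Bool :=
  @Nat.rec (fun _ => ℕ → Bool) (fun _ => true)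
    (fun i ih seen =>
      @Bool.rec (fun _ => Bool)
        (traceK TT w i k i seen ih)
        (ih seen)
        (bitK seen i))
    N


/-- all the words `w ^ k` of the list act trivially on the points below `N` -/
def marksK (TT : ℕ → ℕ → ℕ) (N : ℕ) (specs : List (List ℕ × ℕ)) : Bool :=
  allListK specs (fun s => markAllK TT s.1 s.2 N 0)


theorem traceK_sound (TT : ℕ → ℕ → ℕ) (w : List ℕ) (i : ℕ) :
    ∀ (n cur seen : ℕ) (K : ℕ → Bool), traceK TT w i n cur seen K = true →
      ∃ seen', K seen' = true ∧ (applyW TT w)^[n] cur = i ∧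
        ∀ j, seen'.testBit j = true →
          seen.testBit j = true ∨ ∃ t, j = (applyW TT w)^[t+1] cur := by
  intro n
  induction n with
  | zero =>
    intro cur seen K h
    have e0 : traceK TT w i 0 cur seen K =
        @Bool.rec (fun _ => Bool) false (K seen) (Nat.beq cur i) := rfl
    rw [e0] at h
    obtain ⟨h1, h2⟩ := boolRec_false_eq_true h
    exact ⟨seen, h2, Nat.eq_of_beq_eq_true h1, fun j hj => Or.inl hj⟩
  | succ n ih =>
    intro cur seen K h
    have e0 : traceK TT w i (n+1) cur seen K =
        forceN (applyW TT w cur) (fun c =>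
          traceK TT w i n c (Nat.lor seen (Nat.shiftLeft 1 c)) K) := rfl
    rw [e0, forceN_eq] at h
    obtain ⟨seen', hK, hit, hmarks⟩ := ih _ _ _ h
    refine ⟨seen', hK, ?_, ?_⟩
    · rw [Function.iterate_succ_apply]; exact hit
    · intro j hj
      rcases hmarks j hj with h1 | ⟨t, ht⟩
      · have h2 : (seen ||| 1 <<< applyW TT w cur).testBit j = true := h1
        rw [Nat.testBit_lor, Bool.or_eq_true, Nat.one_shiftLeft, Nat.testBit_two_pow] at h2
        rcases h2 with h2 | h2
        · exact Or.inl h2
        · refine Or.inr ⟨0, ?_⟩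
          rw [(of_decide_eq_true h2).symm]; rfl
      · refine Or.inr ⟨t+1, ?_⟩
        rw [ht, ← Function.iterate_succ_apply (applyW TT w) (t+1) cur]


theorem markAllK_sound (TT : ℕ → ℕ → ℕ) (w : List ℕ) (k : ℕ) :
    ∀ (N seen : ℕ), (∀ j, seen.testBit j = true → (applyW TT w)^[k] j = j) →
      markAllK TT w k N seen = true → ∀ i < N, (applyW TT w)^[k] i = i := by
  intro N
  induction N with
  | zero => intro _ _ _ i hi; exact absurd hi (Nat.not_lt_zero i)
  | succ N ih =>
    intro seen hinv h i hi
    have e0 : markAllK TT w k (N+1) seen =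
        @Bool.rec (fun _ => Bool)
          (traceK TT w N k N seen (markAllK TT w k N))
          (markAllK TT w k N seen) (bitK seen N) := rfl
    rw [e0] at h
    rcases boolRec_eq_true h with ⟨_, h⟩ | ⟨hb, h⟩
    · obtain ⟨seen', hK, hit, hmarks⟩ := traceK_sound TT w N k N seen _ h
      have hinv' : ∀ j, seen'.testBit j = true → (applyW TT w)^[k] j = j := by
        intro j hj
        rcases hmarks j hj with h1 | ⟨t, ht⟩
        · exact hinv j h1
        · rw [ht, ← Function.iterate_add_apply, Nat.add_comm, Function.iterate_add_apply, hit]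
      rcases Nat.lt_succ_iff_lt_or_eq.mp hi with h1 | h1
      · exact ih seen' hinv' hK i h1
      · rw [h1]; exact hit
    · rcases Nat.lt_succ_iff_lt_or_eq.mp hi with h1 | h1
      · exact ih seen hinv h i h1
      · rw [h1]; exact hinv N ((bitK_iff seen N).mp hb)


theorem marksK_append {TT : ℕ → ℕ → ℕ} {N : ℕ} {a b : List (List ℕ × ℕ)}
    (ha : marksK TT N a = true) (hb : marksK TT N b = true) : marksK TT N (a ++ b) = true := by
  refine (allListK_iff _ _).mpr (fun s hs => ?_)
  rcases List.mem_append.mp hs with h | h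
  · exact (allListK_iff a _).mp ha s h
  · exact (allListK_iff b _).mp hb s h


theorem marksK_nil (TT : ℕ → ℕ → ℕ) (N : ℕ) : marksK TT N [] = true := rfl


theorem marksK_cons {TT : ℕ → ℕ → ℕ} {N : ℕ} {s : List ℕ × ℕ} {l : List (List ℕ × ℕ)}
    (hs : marksK TT N [s] = true) (hl : marksK TT N l = true) : marksK TT N (s :: l) = true :=
  marksK_append hs hl


/-- the cheap check implies the plain check of the words -/
theorem relsK_of_marksK {TT : ℕ → ℕ → ℕ} {N : ℕ} {specs : List (List ℕ × ℕ)}
    (h : marksK TT N specs = true) :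
    relsK TT N (specs.map (fun s => wpow s.1 s.2)) = true := by
  refine (allListK_iff _ _).mpr (fun r hr => (allBelowK_iff N _).mpr (fun i hi => ?_))
  obtain ⟨s, hs, rfl⟩ := List.mem_map.mp hr
  have h1 := (allListK_iff specs _).mp h s hs
  have h2 := markAllK_sound TT s.1 s.2 N 0 (fun j hj => by simp at hj) h1 i hi
  rw [← applyW_wpow] at h2
  show Nat.beq (applyW TT (wpow s.1 s.2) i) i = true
  rw [h2]
  exact Nat.beq_refl i

end Cfsg.Agent.Lib.Helper12.TC.Fn
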