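import Cfsg.Agent.Lib.Helper12.TC.Fn.Ranges

/-!
The check of the final table split into parts, with the bitmap of the live labels given as a literal
(helper12).
-/

set_option autoImplicit false

namespace Cfsg.Agent.Lib.Helper12.TC.Fn

open Cfsg.Agent.Lib.Helper12.TC

theorem allListK_append {α : Type} {a b : List α} {p : α → Bool}
    (ha : allListK a p = true) (hb : allListK b p = true) : allListK (a ++ b) p = true := by
  refine (allListK_iff _ _).mpr (fun s hs => ?_)
  rcases List.mem_append.mp hs with h | h
  · exact (allListK_iff a _).mp ha s h
  · exact (allListK_iff b _).mp hb s h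

/-- the final table is checked in parts against the literal bitmap `LIVE` of its labels -/
theorem finK_of_parts {F : ℕ → ℕ} {K g : ℕ} {recs : List ℕ} {LIVE : ℕ}
    (hlive : Nat.beq (liveK recs) LIVE = true) (h0 : bitK LIVE 0 = true)
    (hall : allListK recs (fun rec => finRec F LIVE K g rec) = true) : finK F K g recs = true := by
  have e : liveK recs = LIVE := Nat.eq_of_beq_eq_true hlive
  show (bitK (liveK recs) 0 && allListK recs (fun rec => finRec F (liveK recs) K g rec)) = true
  rw [e, h0, hall]
  rfl

end Cfsg.Agent.Lib.Helper12.TC.Fn
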