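import Cfsg.Agent.Lib.Helper12.TC.Fn.Marks

/-!
Function tables: the marking check split into ranges of points, with the bitmaps handed over as
literals, and the combination of the checks of the single words (helper12).
-/

set_option autoImplicit false

namespace Cfsg.Agent.Lib.Helper12.TC.Fn

open Cfsg.Agent.Lib.Helper12.TC

/-- trace the cycles of `w` through the points `lo + j`, `j < n`, which are not yet marked; the final
bitmap goes to `K` -/
def markRangeK (TT : ℕ → ℕ → ℕ) (w : List ℕ) (k lo n : ℕ) : ℕ → (ℕ → Bool) → Bool :=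
  @Nat.rec (fun _ => ℕ → (ℕ → Bool) → Bool) (fun seen K => K seen)
    (fun j ih seen K =>
      forceN (Nat.add lo j) (fun i =>
        @Bool.rec (fun _ => Bool)
          (traceK TT w i k i seen (fun seen' => ih seen' K))
          (ih seen K)
          (bitK seen i)))
    n

/-- all marked points are fixed by `w ^ k` -/
def MarkInv (TT : ℕ → ℕ → ℕ) (w : List ℕ) (k seen : ℕ) : Prop :=
  ∀ j, seen.testBit j = true → (applyW TT w)^[k] j = j

theorem markInv_zero (TT : ℕ → ℕ → ℕ) (w : List ℕ) (k : ℕ) : MarkInv TT w k 0 := by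
  intro j hj
  simp at hj

theorem markRangeK_sound (TT : ℕ → ℕ → ℕ) (w : List ℕ) (k lo : ℕ) :
    ∀ (n seen : ℕ) (K : ℕ → Bool), MarkInv TT w k seen →
      markRangeK TT w k lo n seen K = true →
      ∃ seen', K seen' = true ∧ MarkInv TT w k seen' ∧
        ∀ i, lo ≤ i → i < lo + n → (applyW TT w)^[k] i = i := by
  intro n
  induction n with
  | zero =>
    intro seen K hinv h
    exact ⟨seen, h, hinv, fun i h1 h2 => absurd h2 (by omega)⟩
  | succ n ih =>
    intro seen K hinv h
    have e0 : markRangeK TT w k lo (n+1) seen K =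
        forceN (Nat.add lo n) (fun i =>
          @Bool.rec (fun _ => Bool)
            (traceK TT w i k i seen (fun seen' => markRangeK TT w k lo n seen' K))
            (markRangeK TT w k lo n seen K)
            (bitK seen i)) := rfl
    rw [e0, forceN_eq] at h
    have hadd : Nat.add lo n = lo + n := rfl
    rw [hadd] at h
    rcases boolRec_eq_true h with ⟨_, h⟩ | ⟨hb, h⟩
    · obtain ⟨seen', hK, hit, hmarks⟩ := traceK_sound TT w (lo + n) k (lo + n) seen _ h
      have hinv' : MarkInv TT w k seen' := by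
        intro j hj
        rcases hmarks j hj with h1 | ⟨t, ht⟩
        · exact hinv j h1
        · rw [ht, ← Function.iterate_add_apply, Nat.add_comm, Function.iterate_add_apply, hit]
      obtain ⟨seen'', hK'', hinv'', hfix⟩ := ih seen' K hinv' hK
      refine ⟨seen'', hK'', hinv'', fun i h1 h2 => ?_⟩
      rcases Nat.lt_or_ge i (lo + n) with h3 | h3
      · exact hfix i h1 h3
      · have : i = lo + n := by omega
        rw [this]; exact hit
    · obtain ⟨seen'', hK'', hinv'', hfix⟩ := ih seen K hinv h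
      refine ⟨seen'', hK'', hinv'', fun i h1 h2 => ?_⟩
      rcases Nat.lt_or_ge i (lo + n) with h3 | h3
      · exact hfix i h1 h3
      · have : i = lo + n := by omega
        rw [this]; exact hinv _ ((bitK_iff seen _).mp hb)

/-- the points of `[lo, hi)` are fixed by `w ^ k`, and so are the points marked in `seen` -/
def RangeOK (TT : ℕ → ℕ → ℕ) (w : List ℕ) (k lo hi seen : ℕ) : Prop :=
  MarkInv TT w k seen ∧ ∀ i, lo ≤ i → i < hi → (applyW TT w)^[k] i = i

theorem rangeOK_start (TT : ℕ → ℕ → ℕ) (w : List ℕ) (k N : ℕ) : RangeOK TT w k N N 0 :=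
  ⟨markInv_zero TT w k, fun i h1 h2 => absurd h2 (by omega)⟩

theorem rangeOK_step {TT : ℕ → ℕ → ℕ} {w : List ℕ} {k lo n mid hi s₁ s₂ : ℕ}
    (h : markRangeK TT w k lo n s₁ (fun s => Nat.beq s s₂) = true) (hmid : lo + n = mid)
    (hprev : RangeOK TT w k mid hi s₁) : RangeOK TT w k lo hi s₂ := by
  obtain ⟨seen', hK, hinv, hfix⟩ := markRangeK_sound TT w k lo n s₁ _ hprev.1 h
  have hs : seen' = s₂ := Nat.eq_of_beq_eq_true hK
  rw [hs] at hinv
  refine ⟨hinv, fun i h1 h2 => ?_⟩
  rcases Nat.lt_or_ge i mid with h3 | h3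
  · exact hfix i h1 (by omega)
  · exact hprev.2 i h3 h2

/-- all the words `w ^ k` of the list act trivially on the points below `N` -/
def FixAll (TT : ℕ → ℕ → ℕ) (N : ℕ) (specs : List (List ℕ × ℕ)) : Prop :=
  ∀ s ∈ specs, ∀ i < N, (applyW TT s.1)^[s.2] i = i

theorem fixAll_nil (TT : ℕ → ℕ → ℕ) (N : ℕ) : FixAll TT N [] := by
  intro s hs
  simp at hs

theorem fixAll_cons {TT : ℕ → ℕ → ℕ} {N : ℕ} {s : List ℕ × ℕ} {l : List (List ℕ × ℕ)}
    (hs : ∀ i < N, (applyW TT s.1)^[s.2] i = i) (hl : FixAll TT N l) : FixAll TT N (s :: l) := by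
  intro t ht
  rcases List.mem_cons.mp ht with rfl | h
  · exact hs
  · exact hl t h

theorem fix_of_marksK {TT : ℕ → ℕ → ℕ} {N : ℕ} {s : List ℕ × ℕ} (h : marksK TT N [s] = true) :
    ∀ i < N, (applyW TT s.1)^[s.2] i = i := by
  have h1 := (allListK_iff [s] _).mp h s List.mem_cons_self
  exact markAllK_sound TT s.1 s.2 N 0 (fun j hj => by simp at hj) h1

theorem fix_of_rangeOK {TT : ℕ → ℕ → ℕ} {N : ℕ} {w : List ℕ} {k seen : ℕ}
    (h : RangeOK TT w k 0 N seen) : ∀ i < N, (applyW TT (w, k).1)^[(w, k).2] i = i :=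
  fun i hi => h.2 i (Nat.zero_le i) hi

/-- the checks of the single words imply the plain check of the words -/
theorem relsK_of_fixAll {TT : ℕ → ℕ → ℕ} {N : ℕ} {specs : List (List ℕ × ℕ)}
    (h : FixAll TT N specs) :
    relsK TT N (specs.map (fun s => wpow s.1 s.2)) = true := by
  refine (allListK_iff _ _).mpr (fun r hr => (allBelowK_iff N _).mpr (fun i hi => ?_))
  obtain ⟨s, hs, rfl⟩ := List.mem_map.mp hr
  have h2 := h s hs i hi
  rw [← applyW_wpow] at h2
  show Nat.beq (applyW TT (wpow s.1 s.2) i) i = true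
  rw [h2]
  exact Nat.beq_refl i

/-- the interval `[lo, hi)` is mapped to itself by the word `w` -/
def orbInvOneK (TT : ℕ → ℕ → ℕ) (w : List ℕ) (lo hi : ℕ) : Bool :=
  allBelowK hi (fun i => Nat.blt i lo ||
    forceN (applyW TT w i) (fun j => Nat.ble lo j && Nat.blt j hi))

theorem orbInvK_of_ones {TT : ℕ → ℕ → ℕ} {sw : List (List ℕ)} {lo hi : ℕ}
    (h : ∀ w ∈ sw, orbInvOneK TT w lo hi = true) : orbInvK TT sw lo hi = true :=
  (allListK_iff sw _).mpr h

end Cfsg.Agent.Lib.Helper12.TC.Fn
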