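import Cfsg.Agent.Lib.Helper12.TC.Fn.Ranges

/-!
Function tables: the check that a word acts trivially on a range of points, point by point and without marking
the points met; it needs no bitmaps, so its memory use does not grow with the number of points (helper12).
-/

set_option autoImplicit false

namespace Cfsg.Agent.Lib.Helper12.TC.Fn

open Cfsg.Agent.Lib.Helper12.TC

/-- the word `w` fixes the points `lo + j`, `j < n` -/
def fixRangeK (TT : ℕ → ℕ → ℕ) (w : List ℕ) (lo n : ℕ) : Bool :=
  allBelowK n (fun j => forceN (Nat.add lo j) (fun i => Nat.beq (applyW TT w i) i))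

theorem fixRangeK_sound {TT : ℕ → ℕ → ℕ} {w : List ℕ} {lo n : ℕ} (h : fixRangeK TT w lo n = true) :
    ∀ i, lo ≤ i → i < lo + n → applyW TT w i = i := by
  intro i h1 h2
  have h3 := (allBelowK_iff n _).mp h (i - lo) (by omega)
  rw [forceN_eq] at h3
  have h4 : Nat.add lo (i - lo) = i := by show lo + (i - lo) = i; omega
  rw [h4] at h3
  exact Nat.eq_of_beq_eq_true h3

/-- a step of the chain of ranges, the power of the word written out -/
theorem rangeOK_step_fix {TT : ℕ → ℕ → ℕ} {w : List ℕ} {k lo n mid hi s : ℕ}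
    (h : fixRangeK TT (wpow w k) lo n = true) (hmid : lo + n = mid)
    (hprev : RangeOK TT w k mid hi s) : RangeOK TT w k lo hi s := by
  refine ⟨hprev.1, fun i h1 h2 => ?_⟩
  rcases Nat.lt_or_ge i mid with h3 | h3
  · rw [← applyW_wpow]
    exact fixRangeK_sound h i h1 (by omega)
  · exact hprev.2 i h3 h2

/-! ### checks of all points below a bound, split into ranges -/

/-- the predicate holds for the points `lo + j`, `j < n` -/
def allRangeK (p : ℕ → Bool) (lo n : ℕ) : Bool :=
  allBelowK n (fun j => forceN (Nat.add lo j) p)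

/-- the predicate holds for the points below `hi` -/
def AllBelow (p : ℕ → Bool) (hi : ℕ) : Prop := ∀ i < hi, p i = true

theorem allBelow_start (p : ℕ → Bool) : AllBelow p 0 :=
  fun i hi => absurd hi (Nat.not_lt_zero i)

theorem allBelow_step {p : ℕ → Bool} {lo n hi : ℕ} (h : allRangeK p lo n = true) (hhi : lo + n = hi)
    (hprev : AllBelow p lo) : AllBelow p hi := by
  intro i hi'
  rcases Nat.lt_or_ge i lo with h1 | h1
  · exact hprev i h1
  · have h2 := (allBelowK_iff n _).mp h (i - lo) (by omega)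
    rw [forceN_eq] at h2
    have h3 : Nat.add lo (i - lo) = i := by show lo + (i - lo) = i; omega
    rw [h3] at h2
    exact h2

/-- the predicate of `transK` -/
def transP (TT : ℕ → ℕ → ℕ) (g : ℕ) (sw : List (List ℕ)) (i : ℕ) : Bool :=
  Nat.beq i 0 || (anyBelowK g (fun x => Nat.blt (TT x i) i) ||
    anyListK sw (fun w => Nat.blt (applyW TT w i) i))

theorem transK_of_allBelow {TT : ℕ → ℕ → ℕ} {g N : ℕ} {sw : List (List ℕ)}
    (h : AllBelow (transP TT g sw) N) : transK TT g N sw = true :=
  (allBelowK_iff N _).mpr h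

/-- the predicate of `orbConnK` -/
def connP (TT : ℕ → ℕ → ℕ) (sw : List (List ℕ)) (lo : ℕ) (i : ℕ) : Bool :=
  Nat.ble i lo || anyListK sw (fun w => Nat.blt (applyW TT w i) i)

theorem connP_below (TT : ℕ → ℕ → ℕ) (sw : List (List ℕ)) (lo : ℕ) : AllBelow (connP TT sw lo) (lo + 1) := by
  intro i hi
  unfold connP
  rw [Nat.ble_eq_true_of_le (by omega)]
  rfl

theorem orbConnK_of_allBelow {TT : ℕ → ℕ → ℕ} {sw : List (List ℕ)} {lo hi : ℕ}
    (h : AllBelow (connP TT sw lo) hi) : orbConnK TT sw lo hi = true :=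
  (allBelowK_iff hi _).mpr h

/-- the predicate of `orbInvOneK` -/
def invP (TT : ℕ → ℕ → ℕ) (w : List ℕ) (lo hi : ℕ) (i : ℕ) : Bool :=
  Nat.blt i lo || forceN (applyW TT w i) (fun j => Nat.ble lo j && Nat.blt j hi)

theorem invP_below (TT : ℕ → ℕ → ℕ) (w : List ℕ) (lo hi : ℕ) : AllBelow (invP TT w lo hi) lo := by
  intro i hi'
  unfold invP
  have : Nat.blt i lo = true := Nat.ble_eq_true_of_le hi'
  rw [this]
  rfl

theorem orbInvOneK_of_allBelow {TT : ℕ → ℕ → ℕ} {w : List ℕ} {lo hi : ℕ}
    (h : AllBelow (invP TT w lo hi) hi) : orbInvOneK TT w lo hi = true :=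
  (allBelowK_iff hi _).mpr h

end Cfsg.Agent.Lib.Helper12.TC.Fn
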