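import Cfsg.Agent.Lib.Helper12.TC.Fn.Main

/-!
Word identities in Coxeter style presented groups from derivations found by coset enumeration over the
trivial subgroup (helper12).
-/

set_option autoImplicit false

namespace Cfsg.Agent.Lib.Helper12.TC.Fn

open Cfsg.Agent.Lib.Helper12.TC Cfsg.Spor

section WordProof

variable {α : Type} [DecidableEq α] (edges : List (α × ℕ × α)) (extra : List (FreeGroup α))
  (gen : ℕ → α) (g : ℕ)

set_option maxHeartbeats 1000000 in
/-- a word traced through valid facts from the label `0` back to the label `0` is trivial -/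
theorem presented_word_eq_one
    (hg : g ≤ 15)
    (hnodes : ∀ y : α, y ∈ coxNodes edges)
    (extraWords : List (List ℕ))
    (hextra : ∀ {K : Type} [Group K] (φ : FreeGroup α →* K),
      (∀ y, φ (FreeGroup.of y) * φ (FreeGroup.of y) = 1) →
      ((∀ r ∈ extra, φ r = 1) ↔
        ∀ b ∈ extraWords, wprod (fun i => φ (FreeGroup.of (gen i))) b = 1))
    (F : ℕ → ℕ) (RW : ℕ) (rotW : List (ℕ × ℕ))
    (chunks : List (ℕ × List ℕ)) (D K R0 : ℕ) (hK : 0 < K)
    (hdefs : defsK F D = true)
    (hchunks : ∀ c ∈ chunks, chunkK F RW R0 c.2 c.1 = true)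
    (hcover : coverK D K chunks = true)
    (hrelc : relCheckK RW R0 R0 (baseL edges gen g extraWords) rotW [] = true)
    (hlet : lettersK g (baseL edges gen g extraWords) = true)
    (w : List ℕ) (hw : ∀ s ∈ w, s < g) (rec n : ℕ)
    (hwalk : stepsK F (K - 1) rec 0 0 n 0 (pack w) = true) :
    wprod (fun i => PresentedGroup.mk (coxRelators edges ∪ {r | r ∈ extra})
      (FreeGroup.of (gen i))) w = 1 := by
  generalize hrelsdef : coxRelators edges ∪ {r | r ∈ extra} = rels at *
  -- the generators
  let v : ℕ → PresentedGroup rels :=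
    fun i => if i < g then PresentedGroup.mk rels (FreeGroup.of (gen i)) else 1
  have hvlt : ∀ i < g, v i = PresentedGroup.mk rels (FreeGroup.of (gen i)) := fun i hi => if_pos hi
  have hvge : ∀ i, ¬ i < g → v i = 1 := fun i hi => if_neg hi
  have hv15 : v 15 = 1 := hvge 15 (by omega)
  have hmk : ∀ r ∈ rels, PresentedGroup.mk rels r = 1 := fun r hr => PresentedGroup.one_of_mem hr
  have hmkcox : ∀ r ∈ coxRelators edges, PresentedGroup.mk rels r = 1 :=
    fun r hr => hmk r (by rw [← hrelsdef]; exact Or.inl hr)
  have hmkext : ∀ r ∈ extra, PresentedGroup.mk rels r = 1 :=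
    fun r hr => hmk r (by rw [← hrelsdef]; exact Or.inr hr)
  have hsqG : ∀ y, PresentedGroup.mk rels (FreeGroup.of y) * PresentedGroup.mk rels (FreeGroup.of y)
      = 1 := cox_sq_of_hom edges (PresentedGroup.mk rels) hnodes hmkcox
  have hinv : ∀ s, v s * v s = 1 := by
    intro s
    by_cases hs : s < g
    · rw [hvlt s hs]; exact hsqG _
    · rw [hvge s hs, mul_one]
  have hwv : ∀ l : List ℕ, (∀ s ∈ l, s < g) →
      wprod v l = wprod (fun i => PresentedGroup.mk rels (FreeGroup.of (gen i))) l := by
    intro l
    induction l with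
    | nil => intro _; rfl
    | cons s l ih =>
      intro hl
      rw [wprod_cons, wprod_cons, ih (fun t ht => hl t (List.mem_cons_of_mem _ ht)),
        hvlt s (hl s List.mem_cons_self)]
  -- the base words have value one
  have hbase : ∀ b ∈ baseL edges gen g extraWords, wprod v b = 1 := by
    intro b hb
    have hbl : ∀ s ∈ b, s < g := fun s hs => lettersK_lt hlet hb hs
    rw [hwv b hbl]
    rcases List.mem_append.mp hb with h | h
    · exact cox_words_of_hom edges gen (PresentedGroup.mk rels) g hnodes hmkcox b h
    · rcases List.mem_append.mp h with h | h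
      · obtain ⟨i, _, rfl⟩ := List.mem_map.mp h
        rw [wprod_cons, wprod_cons, wprod_nil, mul_one]
        exact hsqG _
      · rcases List.mem_append.mp h with h | h
        · exact (hextra (PresentedGroup.mk rels) hsqG).mp hmkext b h
        · rw [List.mem_singleton.mp h]; rfl
  have hlet15 : ∀ L : List (List ℕ), lettersK g L = true → lettersK 15 L = true := by
    intro L hL
    refine (allListK_iff L _).mpr (fun w hw => (allListK_iff w _).mpr (fun s hs => ?_))
    have : s < g := lettersK_lt hL hw hs
    exact Nat.ble_eq_true_of_le (by omega)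
  have hletsw : lettersK 15 ([] : List (List ℕ)) = true :=
    (allListK_iff _ _).mpr (fun w hw => absurd hw List.not_mem_nil)
  obtain ⟨hrel1, hrel2⟩ := relCheck_sound (⊥ : Subgroup (PresentedGroup rels)) v hrelc
    (hlet15 _ hlet) hletsw hbase (fun w hw => absurd hw List.not_mem_nil)
  -- all facts are valid
  have hvalid : ∀ k < K, Valid (⊥ : Subgroup (PresentedGroup rels)) v F k := by
    intro k
    induction k using Nat.strong_induction_on with
    | _ k ih =>
      intro hk
      by_cases hkD : k < D
      · exact defsK_sound _ v F hdefs hkD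
      · exact chunks_valid _ v F hv15 hinv hrel1 hrel2 chunks K D hchunks hcover k
          (Nat.le_of_not_lt hkD) hk (fun j hj => ih j hj (lt_trans hj hk))
  have hall : ∀ j ≤ K - 1, Valid (⊥ : Subgroup (PresentedGroup rels)) v F j :=
    fun j hj => hvalid j (by omega)
  obtain ⟨l, hl, hmem⟩ := stepsK_sound _ v F hv15 hinv hall n 0 (pack w) hwalk
  have hw15 : ∀ s ∈ w, s < 15 := fun s hs => by have := hw s hs; omega
  rw [unpack_pack w hw15, unpack_zero, List.append_nil] at hl
  rw [tau_zero, one_mul, inv_one, mul_one, Subgroup.mem_bot, ← hl, hwv w hw] at hmem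
  exact hmem

end WordProof

end Cfsg.Agent.Lib.Helper12.TC.Fn
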